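import Cfsg.Agent.Lib.CharAction.BrauerFeit
import Cfsg.Agent.Lib.Char.Induced
import Mathlib.LinearAlgebra.Dimension.Finrank
import Mathlib.LinearAlgebra.FiniteDimensional.Lemmas

/-!
# The rows of the regular form of a block and its rank
-/

set_option autoImplicit false

namespace CfsgLib.Blocks.QuaternionDefect

open Cfsg CfsgLib.Char CfsgLib.Blocks CfsgLib.CharAction
open scoped Classical ComplexConjugate

variable {G : Type*} [Group G] [Fintype G] {p : ℕ} [Fact p.Prime] {M : Ideal AlgInt} [M.IsPrime]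
  {B : Set (IrrCharacter G)}

/-- The matrix entry of the regular form. -/
noncomputable def zEntry (p : ℕ) (χ ψ : IrrCharacter G) : ℂ :=
  classInner (regCut p (χ : G → ℂ)) (ψ : G → ℂ)

theorem pow_mul_zEntry (χ ψ : IrrCharacter G) :
    ((p ^ (Nat.card G).factorization p : ℕ) : ℂ) * zEntry p χ ψ =
      (regNum p (χ : G → ℂ) (ψ : G → ℂ) : ℂ) :=
  regNum_eq χ ψ

theorem pow_ne_zero' : ((p ^ (Nat.card G).factorization p : ℕ) : ℂ) ≠ 0 :=
  Nat.cast_ne_zero.2 (pow_ne_zero _ (Fact.out : p.Prime).ne_zero)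

theorem zEntry_comm (χ ψ : IrrCharacter G) : zEntry p χ ψ = zEntry p ψ χ := by
  refine mul_left_cancel₀ (pow_ne_zero' (G := G) (p := p)) ?_
  rw [pow_mul_zEntry, pow_mul_zEntry, regNum_comm]

theorem zEntry_eq_zero (hM : IsPModular p M) (hB : IsPBlock M B) {χ ψ : IrrCharacter G}
    (hχ : χ ∈ B) (hψ : ψ ∉ B) : zEntry p χ ψ = 0 := by
  refine mul_left_cancel₀ (pow_ne_zero' (G := G) (p := p)) ?_
  rw [pow_mul_zEntry, regNum_eq_zero_of_notMem hM hB hχ hψ, Int.cast_zero, mul_zero]

/-- The regular part of a member expands inside the block. -/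
theorem sum_zEntry_mul (hM : IsPModular p M) (hB : IsPBlock M B) {χ : IrrCharacter G} (hχ : χ ∈ B)
    (g : G) : ∑ ψ ∈ (Set.toFinite B).toFinset, zEntry p χ ψ * (ψ : G → ℂ) g =
      regCut p (χ : G → ℂ) g := by
  have := Fintype.ofFinite (IrrCharacter G)
  rw [Finset.sum_subset (Finset.subset_univ (Set.toFinite B).toFinset) fun ψ _ hψ => by
    rw [zEntry_eq_zero hM hB hχ fun h => hψ ((Set.Finite.mem_toFinset _).2 h), zero_mul]]
  exact (classFunction_apply_eq_sum (regCut_conj p (Char.IsIrr.isClassFunction χ.2)) g).symm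

omit [Fact p.Prime] in
/-- A combination vanishing on the regular elements is orthogonal to the rows. -/
theorem sum_mul_zEntry_eq_zero (w : IrrCharacter G → ℂ) (S : Finset (IrrCharacter G))
    (h : ∀ g : G, ¬ p ∣ orderOf g → ∑ ψ ∈ S, w ψ * (ψ : G → ℂ) g = 0) (χ : IrrCharacter G) :
    ∑ ψ ∈ S, w ψ * classInner (ψ : G → ℂ) (regCut p (χ : G → ℂ)) = 0 := by
  simp only [← classInner_smul_left, ← classInner_sum_left]
  rw [classInner, Finset.sum_eq_zero fun g _ => ?_, mul_zero]
  by_cases hg : p ∣ orderOf g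
  · rw [regCut, if_pos hg, map_zero, mul_zero]
  · rw [Finset.sum_apply]
    simp only [Pi.smul_apply, smul_eq_mul]
    rw [h g hg, zero_mul]

theorem classInner_regCut_eq (χ ψ : IrrCharacter G) :
    classInner (ψ : G → ℂ) (regCut p (χ : G → ℂ)) = zEntry p χ ψ := by
  rw [← classInner_conj_symm]
  refine mul_left_cancel₀ (pow_ne_zero' (G := G) (p := p)) ?_
  rw [pow_mul_zEntry, show classInner (regCut p (χ : G → ℂ)) (ψ : G → ℂ) = zEntry p χ ψ from rfl,
    ← Complex.conj_natCast, ← map_mul, pow_mul_zEntry, map_intCast]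

/-- A vector killed on the regular elements is orthogonal to every row. -/
theorem orth_regular (w : IrrCharacter G → ℂ) (S : Finset (IrrCharacter G))
    (h : ∀ g : G, ¬ p ∣ orderOf g → ∑ ψ ∈ S, w ψ * (ψ : G → ℂ) g = 0) (χ : IrrCharacter G) :
    ∑ ψ ∈ S, w ψ * zEntry p χ ψ = 0 := by
  rw [← sum_mul_zEntry_eq_zero w S h χ]
  simp only [classInner_regCut_eq]

/-- The product of two rows. -/
theorem sum_regNum_mul (hM : IsPModular p M) (hB : IsPBlock M B) {χ χ' : IrrCharacter G}
    (hχ : χ ∈ B) :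
    ∑ ψ ∈ (Set.toFinite B).toFinset,
        regNum p (χ : G → ℂ) (ψ : G → ℂ) * regNum p (χ' : G → ℂ) (ψ : G → ℂ) =
      ((p ^ (Nat.card G).factorization p : ℕ) : ℤ) * regNum p (χ : G → ℂ) (χ' : G → ℂ) := by
  refine Int.cast_injective (α := ℂ) ?_
  push_cast
  simp only [← pow_mul_zEntry]
  have h : ∑ ψ ∈ (Set.toFinite B).toFinset, zEntry p χ ψ * zEntry p χ' ψ = zEntry p χ χ' := by
    have e1 : ∀ ψ : IrrCharacter G, zEntry p χ' ψ =
        classInner (ψ : G → ℂ) (regCut p (χ' : G → ℂ)) := fun ψ => (classInner_regCut_eq χ' ψ).symm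
    simp only [e1, ← classInner_smul_left, ← classInner_sum_left]
    rw [show (∑ ψ ∈ (Set.toFinite B).toFinset, zEntry p χ ψ • (ψ : G → ℂ)) =
      regCut p (χ : G → ℂ) from funext fun g => by
        rw [Finset.sum_apply, ← sum_zEntry_mul hM hB hχ g]; rfl,
      zEntry, classInner, classInner]
    congr 1
    refine Finset.sum_congr rfl fun g _ => ?_
    simp only [regCut]
    split <;> simp
  push_cast at *
  rw [← h, Finset.mul_sum, Finset.mul_sum]
  exact Finset.sum_congr rfl fun ψ _ => by ring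

/-- The row of a member of height two below the defect. -/
theorem exists_row (hM : IsPModular 2 M) [Fact (Nat.Prime 2)] (hB : IsPBlock M B)
    {A : Finset (IrrCharacter G)} (hA : ∀ a ∈ A, a ∈ B ∧ blockHeight 2 B (a : G → ℂ) = 0)
    (hA4 : A.card = 4) {χ : IrrCharacter G} (hχ : χ ∈ B)
    (hh : blockHeight 2 B (χ : G → ℂ) + 2 = blockDefect 2 B)
    (hh0 : blockHeight 2 B (χ : G → ℂ) ≠ 0) :
    ∃ v : IrrCharacter G → ℤ,
      (∀ ψ : IrrCharacter G, regNum 2 (χ : G → ℂ) (ψ : G → ℂ) =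
        2 ^ degVal 2 (χ : G → ℂ) * v ψ) ∧
      (∀ a ∈ A, v a = 1 ∨ v a = -1) ∧ v χ = 2 ∧
      ∀ ψ ∈ B, ψ ∉ A → ψ ≠ χ → v ψ = 0 := by
  have := Fintype.ofFinite (IrrCharacter G)
  obtain ⟨v, hv, hsum⟩ := exists_coeff hM hB hχ
  rw [show blockDefect 2 B - blockHeight 2 B (χ : G → ℂ) = 2 by omega] at hsum
  push_cast at hv
  refine ⟨v, hv, ?_⟩
  have hodd : ∀ a ∈ A, Odd (v a) := fun a ha => by
    rw [Int.odd_iff]
    by_contra hne
    refine (not_pow_succ_dvd_regNum_iff hM hB (hA a ha).1 hχ (p := 2)).2 (hA a ha).2 ?_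
    push_cast
    rw [regNum_comm, hv, pow_succ]
    exact mul_dvd_mul_left _ (Int.dvd_of_emod_eq_zero (by omega))
  have heven : (2 : ℤ) ∣ v χ := by
    have h := mt (not_pow_succ_dvd_regNum_iff hM hB hχ hχ (p := 2)).1 hh0
    rw [not_not] at h
    push_cast at h
    rw [hv, pow_succ, mul_dvd_mul_iff_left (pow_ne_zero _ two_ne_zero)] at h
    exact h
  set T := Finset.univ.filter (· ∈ B) with hT
  have hχA : χ ∉ A := fun h => hh0 (hA χ h).2
  have hsub : insert χ A ⊆ T := fun t ht => Finset.mem_filter.2 ⟨Finset.mem_univ _,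
    (Finset.mem_insert.1 ht).elim (fun e => e ▸ hχ) fun h => (hA t h).1⟩
  rw [← Finset.sum_sdiff hsub, Finset.sum_insert hχA] at hsum
  have hone : ∀ a ∈ A, 1 ≤ v a ^ 2 := fun a ha => by
    obtain ⟨m, hm⟩ := hodd a ha
    have : v a ≠ 0 := by omega
    exact sq_pos_of_ne_zero this
  have h4 : (4 : ℤ) ≤ ∑ a ∈ A, v a ^ 2 := by
    calc (4 : ℤ) = ∑ _a ∈ A, (1 : ℤ) := by simp [hA4]
      _ ≤ _ := Finset.sum_le_sum hone
  have hrest : (0 : ℤ) ≤ ∑ t ∈ T \ insert χ A, v t ^ 2 :=
    Finset.sum_nonneg fun t _ => sq_nonneg _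
  push_cast at hsum
  norm_num at hsum
  have hv2 : v χ = 2 := by nlinarith [sq_nonneg (v χ - 2)]
  have hA1 : ∑ a ∈ A, v a ^ 2 = 4 := by nlinarith
  have hR : ∑ t ∈ T \ insert χ A, v t ^ 2 = 0 := by nlinarith
  refine ⟨fun a ha => ?_, hv2, fun ψ hψ hψA hne => ?_⟩
  · have h1 : ∑ t ∈ A, (v t ^ 2 - 1) = 0 := by simp [hA1, hA4]
    have h2 := (Finset.sum_eq_zero_iff_of_nonneg fun t ht => sub_nonneg.2 (hone t ht)).1 h1 a ha
    exact sq_eq_one_iff.1 (sub_eq_zero.1 h2)
  · have h2 := (Finset.sum_eq_zero_iff_of_nonneg fun t _ => sq_nonneg (v t)).1 hR ψ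
      (Finset.mem_sdiff.2 ⟨Finset.mem_filter.2 ⟨Finset.mem_univ _, hψ⟩,
        fun h => (Finset.mem_insert.1 h).elim hne hψA⟩)
    simpa using h2

/-- The members of the block, as a finset. -/
noncomputable abbrev mems (B : Set (IrrCharacter G)) : Finset (IrrCharacter G) :=
  (Set.toFinite B).toFinset

/-- The regular parts as a linear map on weights. -/
noncomputable def regMap (p : ℕ) (B : Set (IrrCharacter G)) : (mems B → ℂ) →ₗ[ℂ] (G → ℂ) :=
  Fintype.linearCombination ℂ fun χ : mems B => pRegularPart p ((χ : IrrCharacter G) : G → ℂ)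

/-- The regular form as a linear map on weights. -/
noncomputable def zMap (p : ℕ) (B : Set (IrrCharacter G)) : (mems B → ℂ) →ₗ[ℂ] (mems B → ℂ) :=
  Matrix.mulVecLin fun χ ψ : mems B => zEntry p (χ : IrrCharacter G) (ψ : IrrCharacter G)

omit [Fact p.Prime] in
theorem zMap_apply (w : mems B → ℂ) (χ : mems B) :
    zMap p B w χ = ∑ ψ : mems B, zEntry p (χ : IrrCharacter G) (ψ : IrrCharacter G) * w ψ := rfl

omit [Fact p.Prime] in
theorem regMap_apply (w : mems B → ℂ) (g : G) :
    regMap p B w g = ∑ χ : mems B, w χ * regCut p ((χ : IrrCharacter G) : G → ℂ) g := by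
  rw [regMap, Fintype.linearCombination_apply, Finset.sum_apply]
  simp only [Pi.smul_apply, smul_eq_mul, pRegularPart_eq_regCut]

omit [Fact p.Prime] in
theorem regMap_eq_zero_iff (w : mems B → ℂ) :
    regMap p B w = 0 ↔
      ∀ g : G, ¬ p ∣ orderOf g → ∑ χ : mems B, w χ * ((χ : IrrCharacter G) : G → ℂ) g = 0 := by
  constructor
  · intro h g hg
    have h1 := congrFun h g
    rw [regMap_apply, Pi.zero_apply] at h1
    rw [← h1]
    simp [regCut, hg]
  · intro h
    funext g
    rw [regMap_apply, Pi.zero_apply]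
    by_cases hg : p ∣ orderOf g
    · simp [regCut, hg]
    · rw [← h g hg]
      simp [regCut, hg]

omit [Fact p.Prime] in
theorem range_regMap : LinearMap.range (regMap p B) =
    Submodule.span ℂ ((fun χ : IrrCharacter G => pRegularPart p (χ : G → ℂ)) '' B) := by
  rw [regMap, Fintype.range_linearCombination]
  congr 1
  ext f
  simp only [Set.mem_range, Set.mem_image, Subtype.exists, Set.Finite.mem_toFinset, exists_prop]

omit [Fact p.Prime] in
theorem blockRank_add_ker :
    blockRank p B + Module.finrank ℂ (LinearMap.ker (regMap p B)) = Nat.card B := by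
  have h1 := (regMap p B).finrank_range_add_finrank_ker
  rw [range_regMap, Module.finrank_fintype_fun_eq_card, Fintype.card_coe] at h1
  rwa [Nat.card_coe_set_eq, Set.ncard_eq_toFinset_card B (Set.toFinite B), blockRank]

variable (hM : IsPModular p M) (hB : IsPBlock M B)
include hM hB

theorem regMap_sub_zMap (w : mems B → ℂ) : regMap p B (w - zMap p B w) = 0 := by
  rw [regMap_eq_zero_iff]
  intro g hg
  simp only [Pi.sub_apply, sub_mul, Finset.sum_sub_distrib, zMap_apply, Finset.sum_mul]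
  rw [Finset.sum_comm, sub_eq_zero]
  refine Finset.sum_congr rfl fun ψ _ => ?_
  have hψ : (ψ : IrrCharacter G) ∈ B := (Set.Finite.mem_toFinset _).1 ψ.2
  rw [Finset.sum_congr rfl (g := fun χ : mems B => w ψ *
    (zEntry p (ψ : IrrCharacter G) (χ : IrrCharacter G) * ((χ : IrrCharacter G) : G → ℂ) g))
    fun χ _ => by rw [zEntry_comm (ψ : IrrCharacter G)]; ring,
    ← Finset.mul_sum, Finset.sum_coe_sort (mems B)
      (fun χ => zEntry p (ψ : IrrCharacter G) χ * (χ : G → ℂ) g),
    sum_zEntry_mul hM hB hψ, regCut, if_neg hg]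

omit hM hB in
theorem zMap_eq_zero {w : mems B → ℂ} (h : regMap p B w = 0) : zMap p B w = 0 := by
  rw [regMap_eq_zero_iff] at h
  funext χ
  rw [zMap_apply, Pi.zero_apply]
  set w' : IrrCharacter G → ℂ := fun ψ => if hm : ψ ∈ mems B then w ⟨ψ, hm⟩ else 0 with hw'
  have hw : ∀ ψ : mems B, w' (ψ : IrrCharacter G) = w ψ := fun ψ => dif_pos ψ.2
  have := orth_regular (p := p) w' (mems B) (fun g hg => ?_) (χ : IrrCharacter G)
  · rw [← this, ← Finset.sum_coe_sort (mems B)]
    exact Finset.sum_congr rfl fun ψ _ => by rw [hw, mul_comm]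
  · rw [← h g hg, ← Finset.sum_coe_sort (mems B)]
    exact Finset.sum_congr rfl fun ψ _ => by rw [hw]

theorem ker_zMap : LinearMap.ker (zMap p B) = LinearMap.ker (regMap p B) := by
  ext w
  rw [LinearMap.mem_ker, LinearMap.mem_ker]
  refine ⟨fun h => ?_, zMap_eq_zero⟩
  have := regMap_sub_zMap hM hB w
  rwa [h, sub_zero] at this

theorem zMap_idem (w : mems B → ℂ) : zMap p B (zMap p B w) = zMap p B w := by
  have := zMap_eq_zero (regMap_sub_zMap hM hB w)
  rw [map_sub, sub_eq_zero] at this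
  exact this.symm

theorem finrank_range_zMap : Module.finrank ℂ (LinearMap.range (zMap p B)) = blockRank p B := by
  have h1 := (zMap p B).finrank_range_add_finrank_ker
  have h2 := blockRank_add_ker (p := p) (B := B)
  rw [ker_zMap hM hB, Module.finrank_fintype_fun_eq_card, Fintype.card_coe] at h1
  rw [Nat.card_coe_set_eq, Set.ncard_eq_toFinset_card B (Set.toFinite B),
    show (Set.toFinite B).toFinset.card = (mems B).card from rfl] at h2
  omega

/-- An upper bound for the rank. -/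
theorem blockRank_le_of_injective {V : Type*} [AddCommGroup V] [Module ℂ V] [FiniteDimensional ℂ V]
    (π : (mems B → ℂ) →ₗ[ℂ] V) (h : ∀ w, zMap p B w = w → π w = 0 → w = 0) :
    blockRank p B ≤ Module.finrank ℂ V := by
  rw [← finrank_range_zMap hM hB]
  refine LinearMap.finrank_le_finrank_of_injective (f := π.comp (LinearMap.range (zMap p B)).subtype) ?_
  rw [← LinearMap.ker_eq_bot, LinearMap.ker_eq_bot']
  rintro ⟨w, w', rfl⟩ hw
  exact Subtype.ext (h _ (zMap_idem hM hB w') hw)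

/-- A lower bound for the rank. -/
theorem le_blockRank_of_independent {κ : Type*} [Fintype κ] (f : κ → mems B → ℂ)
    (hf : ∀ i, zMap p B (f i) = f i) (hli : LinearIndependent ℂ f) :
    Fintype.card κ ≤ blockRank p B := by
  rw [← finrank_range_zMap hM hB]
  have : LinearIndependent ℂ (fun i => (⟨f i, ⟨f i, hf i⟩⟩ : LinearMap.range (zMap p B))) :=
    LinearIndependent.of_comp (LinearMap.range (zMap p B)).subtype hli
  exact this.fintype_card_le_finrank

/-- The degrees form a fixed vector. -/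
theorem zMap_degree :
    zMap p B (fun χ : mems B => ((χ : IrrCharacter G) : G → ℂ) 1) =
      fun χ : mems B => ((χ : IrrCharacter G) : G → ℂ) 1 := by
  funext χ
  rw [zMap_apply, Finset.sum_coe_sort (mems B)
    (fun ψ => zEntry p (χ : IrrCharacter G) ψ * (ψ : G → ℂ) 1),
    sum_zEntry_mul hM hB ((Set.Finite.mem_toFinset _).1 χ.2), regCut,
    if_neg (by simpa using (Fact.out : p.Prime).ne_one)]

/-- The rows form fixed vectors. -/
theorem zMap_row (χ₀ : IrrCharacter G) (hχ₀ : χ₀ ∈ B) :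
    zMap p B (fun χ : mems B => zEntry p χ₀ (χ : IrrCharacter G)) =
      fun χ : mems B => zEntry p χ₀ (χ : IrrCharacter G) := by
  have h := zMap_idem hM hB (Pi.single (⟨χ₀, (Set.Finite.mem_toFinset _).2 hχ₀⟩ : mems B) 1)
  have e : zMap p B (Pi.single (⟨χ₀, (Set.Finite.mem_toFinset _).2 hχ₀⟩ : mems B) 1) =
      fun χ : mems B => zEntry p χ₀ (χ : IrrCharacter G) := funext fun χ => by
    rw [zMap_apply, Finset.sum_eq_single (⟨χ₀, (Set.Finite.mem_toFinset _).2 hχ₀⟩ : mems B)
      (fun ψ _ hne => by rw [Pi.single_eq_of_ne hne, mul_zero])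
      (fun hn => absurd (Finset.mem_univ _) hn), Pi.single_eq_same, mul_one, zEntry_comm]
  rwa [e] at h

end CfsgLib.Blocks.QuaternionDefect
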