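import Cfsg.Agent.Lib.Blocks.QuaternionDefect.Combin

/-!
# The possible configurations of the vectors and of the rows of the regular form
-/

set_option autoImplicit false

namespace CfsgLib.Blocks.QuaternionDefect

open Finset CfsgLib.Blocks.DihedralDefect
open scoped Classical

variable {ι : Type*}

/-- All the vectors. -/
structure Data (S : Finset ι) (x y : ℕ → ι → ℤ) (r : ℕ) (d : ι → ℤ) : Prop where
  tab : XTab S x r d
  gramY : ∀ i ∈ Finset.Ico 1 r, ∀ j ∈ Finset.Ico 1 r,
    ∑ t ∈ S, y i t * y j t = 1 + (if i = j then 1 else 0)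
  degY : ∀ j ∈ Finset.Ico 1 r, ∑ t ∈ S, y j t * d t = 0
  gramXY : ∀ i ∈ Finset.Icc 1 r, ∀ j ∈ Finset.Ico 1 r, ∑ t ∈ S, x i t * y j t = 0

/-- A member met by a family of vectors. -/
def IsMet (J : Finset ℕ) (x : ℕ → ι → ℤ) (t : ι) : Prop := ∃ i ∈ J, x i t ≠ 0

/-- The members met by the vectors of even index. -/
noncomputable def cov (S : Finset ι) (x : ℕ → ι → ℤ) (r : ℕ) : Finset ι :=
  S.filter fun t => IsMet (Finset.Icc 1 r) x t

/-- The members met by the vectors of odd index. -/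
noncomputable def cyc (S : Finset ι) (y : ℕ → ι → ℤ) (r : ℕ) : Finset ι :=
  S.filter fun t => IsMet (Finset.Ico 1 r) y t

/-- A member outside both supports. -/
def IsRem (S : Finset ι) (x y : ℕ → ι → ℤ) (r : ℕ) (t : ι) : Prop :=
  t ∉ cov S x r ∧ t ∉ cyc S y r

/-- The remaining members. -/
noncomputable def rem (S : Finset ι) (x y : ℕ → ι → ℤ) (r : ℕ) : Finset ι :=
  S.filter fun t => IsRem S x y r t

variable {S : Finset ι} {x y : ℕ → ι → ℤ} {r : ℕ} {d : ι → ℤ} (T : Data S x y r d)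
include T

theorem Data.ypair {i : ℕ} (hi : i ∈ Ico 1 r) :
    ∃ p ∈ S, ∃ m ∈ S, p ≠ m ∧
      ∀ t ∈ S, y i t = (if t = p then 1 else 0) - (if t = m then 1 else 0) := by
  have hn : ∑ t ∈ S, y i t * y i t = 2 := by rw [T.gramY i hi i hi, if_pos rfl]; norm_num
  have hsmall : ∀ t ∈ S, y i t = 0 ∨ y i t = 1 ∨ y i t = -1 := by
    intro t ht
    have h3 : y i t * y i t ≤ 2 := hn ▸
      single_le_sum (f := fun s => y i s * y i s) (fun s _ => mul_self_nonneg _) ht
    have h4 : y i t ≤ 1 := by nlinarith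
    have h5 : -1 ≤ y i t := by nlinarith
    omega
  have hcard : (S.filter fun t => y i t ≠ 0).card = 2 := by
    have h : ∑ t ∈ S, y i t * y i t = (((S.filter fun t => y i t ≠ 0).card : ℕ) : ℤ) := by
      rw [card_filter, Nat.cast_sum]
      refine sum_congr rfl fun t ht => ?_
      rcases hsmall t ht with e | e | e <;> simp [e]
    exact_mod_cast h.symm.trans hn
  obtain ⟨a, b, hab, hS⟩ := card_eq_two.1 hcard
  have ha := mem_filter.1 (hS.ge (mem_insert_self a _))
  have hb := mem_filter.1 (hS.ge (mem_insert_of_mem (mem_singleton_self b)))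
  have hz : ∀ t ∈ S, t ≠ a → t ≠ b → y i t = 0 := fun t ht h1 h2 => by
    by_contra h0
    have h5 := hS.le (mem_filter.2 ⟨ht, h0⟩)
    simp only [mem_insert, mem_singleton] at h5
    exact h5.elim h1 h2
  have hd := T.degY i hi
  rw [← sum_subset (s₁ := ({a, b} : Finset ι))
    (by rw [← hS]; exact filter_subset _ _) (fun t ht hn' => by
      simp only [mem_insert, mem_singleton, not_or] at hn'
      rw [hz t ht hn'.1 hn'.2, zero_mul]), sum_pair hab] at hd
  have pa := T.tab.pos a ha.1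
  have pb := T.tab.pos b hb.1
  rcases (hsmall a ha.1).resolve_left ha.2 with ea | ea
  · have eb : y i b = -1 := by
      refine ((hsmall b hb.1).resolve_left hb.2).resolve_left fun eb => ?_
      rw [ea, eb] at hd; linarith
    refine ⟨a, ha.1, b, hb.1, hab, fun t ht => ?_⟩
    by_cases h1 : t = a
    · rw [h1, if_pos rfl, if_neg hab, ea]; norm_num
    by_cases h2 : t = b
    · rw [h2, if_neg hab.symm, if_pos rfl, eb]; norm_num
    rw [if_neg h1, if_neg h2, hz t ht h1 h2]; norm_num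
  · have eb : y i b = 1 := by
      refine ((hsmall b hb.1).resolve_left hb.2).resolve_right fun eb => ?_
      rw [ea, eb] at hd; linarith
    refine ⟨b, hb.1, a, ha.1, hab.symm, fun t ht => ?_⟩
    by_cases h2 : t = b
    · rw [h2, if_pos rfl, if_neg hab.symm, eb]; norm_num
    by_cases h1 : t = a
    · rw [h1, if_neg hab, if_pos rfl, ea]; norm_num
    rw [if_neg h1, if_neg h2, hz t ht h1 h2]; norm_num

/-- The vectors of odd index share one member. -/
theorem Data.yshape (h2 : 2 ≤ r) :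
    ∃ c ∈ S, ∃ (o : ℕ → ι) (s : ℤ), (s = 1 ∨ s = -1) ∧ Set.InjOn o (Ico 1 r : Finset ℕ) ∧
      ∀ i ∈ Ico 1 r, o i ∈ S ∧ o i ≠ c ∧
        ∀ t ∈ S, y i t = s * ((if t = c then 1 else 0) - (if t = o i then 1 else 0)) := by
  have h1 : 1 ∈ Ico 1 r := mem_Ico.2 ⟨le_rfl, by omega⟩
  have : Nonempty ι := let ⟨p, _⟩ := T.ypair h1; ⟨p⟩
  choose! p hp m hm hpm hval using fun i (hi : i ∈ Ico 1 r) => T.ypair hi
  have hmut : ∀ i ∈ Ico 1 r, ∀ j ∈ Ico 1 r, i ≠ j →
      (p i = p j ∧ m i ≠ m j) ∨ (p i ≠ p j ∧ m i = m j) := by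
    intro i hi j hj hij
    have h := T.gramY i hi j hj
    rw [if_neg hij, sum_congr rfl (g := fun t => (if t = p i then y j t else 0) -
      (if t = m i then y j t else 0)) fun t ht => by
        rw [hval i hi t ht, sub_mul, ite_mul, ite_mul, one_mul, zero_mul],
      sum_sub_distrib, sum_ite_eq', sum_ite_eq', if_pos (hp i hi), if_pos (hm i hi),
      hval j hj _ (hp i hi), hval j hj _ (hm i hi)] at h
    have a := hpm i hi
    have b := hpm j hj
    by_cases e1 : p i = p j <;> by_cases e2 : m i = m j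
    · exfalso
      rw [if_pos e1, if_neg (fun e => b (e1.symm.trans e)), if_pos e2,
        if_neg (fun e : m i = p j => b (e.symm.trans e2))] at h
      omega
    · exact Or.inl ⟨e1, e2⟩
    · exact Or.inr ⟨e1, e2⟩
    · exfalso
      rw [if_neg e1, if_neg e2] at h
      split_ifs at h <;> omega
  by_cases hall : ∀ i ∈ Ico 1 r, p i = p 1
  · refine ⟨p 1, hp 1 h1, m, 1, Or.inl rfl, fun i hi j hj e => ?_,
      fun i hi => ⟨hm i hi, fun e => hpm i hi ((hall i hi).trans e.symm), fun t ht => ?_⟩⟩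
    · by_contra hij
      rcases hmut i hi j hj hij with h | h
      · exact h.2 e
      · exact h.1 ((hall i hi).trans (hall j hj).symm)
    · rw [hval i hi t ht, hall i hi, one_mul]
  push Not at hall
  obtain ⟨k, hk, hk1⟩ := hall
  have hk' : k ≠ 1 := fun e => hk1 (by rw [e])
  have hmk := ((hmut k hk 1 h1 hk').resolve_left fun h => hk1 h.1).2
  have hm1 : ∀ i ∈ Ico 1 r, m i = m 1 := by
    intro i hi
    by_contra hne
    have hi1 : i ≠ 1 := fun e => hne (by rw [e])
    have hp1 := ((hmut i hi 1 h1 hi1).resolve_right fun h => hne h.2).1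
    have hik : i ≠ k := fun e => hk1 (e ▸ hp1)
    rcases hmut i hi k hk hik with h | h
    · exact hk1 (h.1.symm.trans hp1)
    · exact hne (h.2.trans hmk)
  refine ⟨m 1, hm 1 h1, p, -1, Or.inr rfl, fun i hi j hj e => ?_,
    fun i hi => ⟨hp i hi, fun e => hpm i hi (e.trans (hm1 i hi).symm), fun t ht => ?_⟩⟩
  · by_contra hij
    rcases hmut i hi j hj hij with h | h
    · exact h.2 ((hm1 i hi).trans (hm1 j hj).symm)
    · exact h.1 e
  · rw [hval i hi t ht, hm1 i hi]
    ring

omit T in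
theorem cyc_eq_empty (h : r ≤ 1) : cyc S y r = ∅ := by
  refine filter_eq_empty_iff.2 fun t _ => ?_
  rintro ⟨i, hi, -⟩
  rw [mem_Ico] at hi
  omega

theorem Data.cyc_eq {c : ι} {o : ℕ → ι} {s : ℤ} (hc : c ∈ S) (hs : s = 1 ∨ s = -1) (h2 : 2 ≤ r)
    (ho : ∀ i ∈ Ico 1 r, o i ∈ S ∧ o i ≠ c ∧
      ∀ t ∈ S, y i t = s * ((if t = c then 1 else 0) - (if t = o i then 1 else 0))) :
    cyc S y r = insert c ((Ico 1 r).image o) := by
  have h1 : 1 ∈ Ico 1 r := mem_Ico.2 ⟨le_rfl, by omega⟩
  ext t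
  rw [cyc, mem_filter, mem_insert, mem_image]
  constructor
  · rintro ⟨ht, i, hi, hne⟩
    rw [(ho i hi).2.2 t ht] at hne
    by_cases e1 : t = c
    · exact Or.inl e1
    by_cases e2 : t = o i
    · exact Or.inr ⟨i, hi, e2.symm⟩
    rw [if_neg e1, if_neg e2] at hne
    simp at hne
  · rintro (e | ⟨i, hi, e⟩) <;> subst e
    · refine ⟨hc, 1, h1, ?_⟩
      rw [(ho 1 h1).2.2 _ hc, if_pos rfl, if_neg (ho 1 h1).2.1.symm]
      rcases hs with e | e <;> simp [e]
    · refine ⟨(ho i hi).1, i, hi, ?_⟩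
      rw [(ho i hi).2.2 _ (ho i hi).1, if_pos rfl, if_neg (ho i hi).2.1]
      rcases hs with e | e <;> simp [e]

theorem Data.card_cyc (h2 : 2 ≤ r) : (cyc S y r).card = r := by
  obtain ⟨c, hc, o, s, hs, hinj, ho⟩ := T.yshape h2
  rw [T.cyc_eq hc hs h2 ho, card_insert_of_notMem (by
    rw [mem_image]
    rintro ⟨i, hi, e⟩
    exact (ho i hi).2.1 e), card_image_of_injOn hinj, Nat.card_Ico]
  omega

/-- A weight orthogonal to the vectors of odd index is constant on the members they meet. -/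
theorem Data.exists_cyc_const (h2 : 2 ≤ r) :
    ∃ c ∈ cyc S y r, ∀ w : ι → ℂ, (∀ i ∈ Ico 1 r, ∑ t ∈ S, (y i t : ℂ) * w t = 0) →
      ∀ t ∈ cyc S y r, w t = w c := by
  obtain ⟨c, hc, o, s, hs, -, ho⟩ := T.yshape h2
  have hmem := T.cyc_eq hc hs h2 ho
  refine ⟨c, hmem ▸ mem_insert_self _ _, fun w hw t ht => ?_⟩
  rw [hmem, mem_insert, mem_image] at ht
  rcases ht with rfl | ⟨i, hi, rfl⟩
  · rfl
  have h := hw i hi
  rw [sum_congr rfl (g := fun t => (if t = c then (s : ℂ) * w t else 0) -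
    (if t = o i then (s : ℂ) * w t else 0)) fun t ht => by
      rw [(ho i hi).2.2 t ht]
      split_ifs <;> push_cast <;> ring,
    sum_sub_distrib, sum_ite_eq', sum_ite_eq', if_pos hc, if_pos (ho i hi).1, ← mul_sub,
    mul_eq_zero] at h
  have hs0 : (s : ℂ) ≠ 0 := by rcases hs with e | e <;> simp [e]
  exact (sub_eq_zero.1 (h.resolve_left hs0)).symm

variable {P : ℕ → Finset ι} {e : ℕ → ι} {s : ℕ → ℤ}

theorem Data.cov_eq (hX : XShape S x r P e s) :
    cov S x r = longSupp S x r ∪ (Ico 1 r).image e := by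
  ext t
  rw [cov, mem_filter, mem_union, mem_image]
  constructor
  · rintro ⟨ht, i, hi, hne⟩
    rw [mem_Icc] at hi
    by_cases hir : i = r
    · exact Or.inl (mem_filter.2 ⟨ht, hir ▸ hne⟩)
    have hi' : i ∈ Ico 1 r := mem_Ico.2 ⟨hi.1, by omega⟩
    rw [hX.val i hi' t ht] at hne
    by_cases htP : t ∈ P i
    · exact Or.inl (hX.sub i hi' htP)
    by_cases hte : t = e i
    · exact Or.inr ⟨i, hi', hte.symm⟩
    rw [if_neg htP, if_neg hte] at hne
    simp at hne
  · rintro (h | ⟨i, hi, rfl⟩)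
    · exact ⟨(mem_filter.1 h).1, r, T.tab.q_mem, (mem_filter.1 h).2⟩
    · refine ⟨hX.mem i hi, i, mem_Icc.2 ⟨(mem_Ico.1 hi).1, (mem_Ico.1 hi).2.le⟩, ?_⟩
      rw [hX.val i hi _ (hX.mem i hi), if_neg fun h => hX.notMem i hi (hX.sub i hi h), if_pos rfl,
        zero_add]
      rcases hX.sign i hi with e' | e' <;> simp [e']

theorem Data.sum_x_mul (hX : XShape S x r P e s) {j : ℕ} (hj : j ∈ Ico 1 r) (v : ι → ℤ) :
    ∑ t ∈ S, x j t * v t = ∑ t ∈ P j, x r t * v t + s j * v (e j) := by
  rw [sum_congr rfl (g := fun t => (if t ∈ P j then x r t * v t else 0) +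
      (if t = e j then s j * v t else 0)) fun t ht => by
        rw [hX.val j hj t ht, add_mul, ite_mul, ite_mul, zero_mul],
    sum_add_distrib, sum_ite_mem, sum_ite_eq', if_pos (hX.mem j hj),
    inter_eq_right.2 ((hX.sub j hj).trans (filter_subset _ _))]

theorem Data.sum_r_mul (v : ι → ℤ) :
    ∑ t ∈ S, x r t * v t = ∑ t ∈ longSupp S x r, x r t * v t := by
  refine (sum_subset (show longSupp S x r ⊆ S from filter_subset _ _) fun t ht hn => ?_).symm
  rw [not_not.1 fun h => hn (mem_filter.2 ⟨ht, h⟩), zero_mul]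

/-- A vector of odd index avoids the members met by those of even index, unless it lies in the long
support and `r = 2`. -/
theorem Data.overlap (hX : XShape S x r P e s) {i : ℕ} (hi : i ∈ Ico 1 r) {p m : ι} (hp : p ∈ S)
    (hm : m ∈ S) (hpm : p ≠ m)
    (hval : ∀ t ∈ S, y i t = (if t = p then 1 else 0) - (if t = m then 1 else 0))
    (h : p ∈ cov S x r ∨ m ∈ cov S x r) :
    p ∈ longSupp S x r ∧ m ∈ longSupp S x r ∧ x r p = x r m ∧
      ∀ j ∈ Ico 1 r, (p ∈ P j ↔ m ∈ P j) := by
  have key : ∀ j ∈ Icc 1 r, x j p = x j m := fun j hj => by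
    have h0 := T.gramXY j hj i hi
    rw [sum_congr rfl (g := fun t => (if t = p then x j t else 0) - (if t = m then x j t else 0))
      fun t ht => by rw [hval t ht, mul_sub, mul_ite, mul_ite, mul_one, mul_zero],
      sum_sub_distrib, sum_ite_eq', sum_ite_eq', if_pos hp, if_pos hm] at h0
    linarith
  have hr' := key r T.tab.q_mem
  have hout : ∀ u w : ι, u ∈ cov S x r → w ∈ S → u ≠ w → (∀ j ∈ Icc 1 r, x j u = x j w) →
      u ∈ longSupp S x r := by
    intro u w hu hw huw hk
    rw [T.cov_eq hX, mem_union, mem_image] at hu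
    rcases hu with hu | ⟨j, hj, rfl⟩
    · exact hu
    exfalso
    have hj' : j ∈ Icc 1 r := mem_Icc.2 ⟨(mem_Ico.1 hj).1, (mem_Ico.1 hj).2.le⟩
    have h1 := hk j hj'
    have h2 := hk r T.tab.q_mem
    have h3 : x r (e j) = 0 := not_not.1 fun h => hX.notMem j hj (mem_filter.2 ⟨hX.mem j hj, h⟩)
    rw [hX.val j hj _ (hX.mem j hj), if_neg fun h => hX.notMem j hj (hX.sub j hj h), if_pos rfl,
      hX.val j hj w hw, if_neg huw.symm] at h1
    have hw0 : x r w = 0 := by rw [← h2, h3]
    have : s j = 0 := by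
      split_ifs at h1 <;> omega
    rcases hX.sign j hj with e' | e' <;> omega
  have hpA : p ∈ longSupp S x r ∧ m ∈ longSupp S x r := by
    rcases h with h | h
    · have := hout p m h hm hpm key
      exact ⟨this, mem_filter.2 ⟨hm, hr' ▸ (mem_filter.1 this).2⟩⟩
    · have := hout m p h hp hpm.symm fun j hj => (key j hj).symm
      exact ⟨mem_filter.2 ⟨hp, hr'.symm ▸ (mem_filter.1 this).2⟩, this⟩
  refine ⟨hpA.1, hpA.2, hr', fun j hj => ?_⟩
  have h1 := key j (mem_Icc.2 ⟨(mem_Ico.1 hj).1, (mem_Ico.1 hj).2.le⟩)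
  have hne : ∀ u, u ∈ longSupp S x r → u ≠ e j := fun u hu h => hX.notMem j hj (h ▸ hu)
  rw [hX.val j hj p hp, hX.val j hj m hm, if_neg (hne p hpA.1), if_neg (hne m hpA.2), add_zero,
    add_zero] at h1
  have hp0 := (mem_filter.1 hpA.1).2
  have hm0 := (mem_filter.1 hpA.2).2
  by_cases a : p ∈ P j <;> by_cases b : m ∈ P j <;> simp_all

/-- The two halves of the long support. -/
theorem Data.pair_or_compl (hX : XShape S x r P e s) {p m : ι} (hpm : p ≠ m)
    (hp : p ∈ longSupp S x r) (hm : m ∈ longSupp S x r) {j : ℕ} (hj : j ∈ Ico 1 r)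
    (hiff : p ∈ P j ↔ m ∈ P j) :
    ({p, m} : Finset ι) = P j ∨ ({p, m} : Finset ι) = longSupp S x r \ P j := by
  have hc : ({p, m} : Finset ι).card = 2 := card_pair hpm
  by_cases h : p ∈ P j
  · refine Or.inl (eq_of_subset_of_card_le ?_ (by rw [hX.card j hj, hc]))
    intro t ht
    simp only [mem_insert, mem_singleton] at ht
    rcases ht with rfl | rfl
    exacts [h, hiff.1 h]
  · refine Or.inr (eq_of_subset_of_card_le ?_ ?_)
    · intro t ht
      simp only [mem_insert, mem_singleton] at ht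
      rcases ht with rfl | rfl
      exacts [mem_sdiff.2 ⟨hp, h⟩, mem_sdiff.2 ⟨hm, fun h' => h (hiff.2 h')⟩]
    · rw [card_sdiff_of_subset (hX.sub j hj), hX.card j hj, T.tab.card_longSupp, hc]

theorem Data.not_overlap_exceptional (hX : XShape S x r P e s)
    (hex : r = 4 ∧ ∀ i ∈ Ico 1 r, ∀ j ∈ Ico 1 r, i ≠ j → e i = e j ∧ (P i ∩ P j).card = 1) :
    Disjoint (cov S x r) (cyc S y r) := by
  refine disjoint_left.2 fun t ht hty => ?_
  obtain ⟨htS, i, hi, hne⟩ := mem_filter.1 hty
  obtain ⟨p, hp, m, hm, hpm, hval⟩ := T.ypair hi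
  rw [hval t htS] at hne
  have htpm : p = t ∨ m = t := by
    by_contra hh
    rw [if_neg fun h => hh (Or.inl h.symm), if_neg fun h => hh (Or.inr h.symm)] at hne
    simp at hne
  obtain ⟨hpA, hmA, -, hiff⟩ := T.overlap hX hi hp hm hpm hval
    (by rcases htpm with e' | e' <;> simp [e', ht])
  have h1 : 1 ∈ Ico 1 r := mem_Ico.2 ⟨le_rfl, by omega⟩
  have h2 : 2 ∈ Ico 1 r := mem_Ico.2 ⟨by omega, by omega⟩
  have hc12 := (hex.2 1 h1 2 h2 (by omega)).2
  have hdis : ∀ Q R : Finset ι, Q = longSupp S x r \ R → (Q ∩ R).card = 0 := fun Q R h => by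
    rw [card_eq_zero, h]; ext u; simp
  rcases T.pair_or_compl hX hpm hpA hmA h1 (hiff 1 h1) with a | a <;>
    rcases T.pair_or_compl hX hpm hpA hmA h2 (hiff 2 h2) with b | b
  · rw [← a, ← b, inter_self, card_pair hpm] at hc12; omega
  · rw [← a, b, inter_comm, inter_sdiff_self, card_empty] at hc12
    omega
  · rw [← b, a, inter_sdiff_self, card_empty] at hc12; omega
  · have : P 1 = P 2 := by
      rw [← Finset.sdiff_sdiff_eq_self (hX.sub 1 h1), ← a, b,
        Finset.sdiff_sdiff_eq_self (hX.sub 2 h2)]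
    rw [this, inter_self, hX.card 2 h2] at hc12
    omega

theorem Data.not_overlap_large (hX : XShape S x r P e s) (hr : 3 ≤ r)
    (hreg : ∀ i ∈ Ico 1 r, ∀ j ∈ Ico 1 r, P i = P j) :
    Disjoint (cov S x r) (cyc S y r) := by
  obtain ⟨c, hc, o, g, hg, hinj, ho⟩ := T.yshape (by omega)
  rw [T.cyc_eq hc hg (by omega) ho]
  have hcl : ∀ i ∈ Ico 1 r, (c ∈ cov S x r ∨ o i ∈ cov S x r) →
      c ∈ longSupp S x r ∧ o i ∈ longSupp S x r ∧ x r c = x r (o i) ∧
        ∀ j ∈ Ico 1 r, (c ∈ P j ↔ o i ∈ P j) := by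
    intro i hi h
    rcases hg with e' | e'
    · exact T.overlap hX hi hc (ho i hi).1 (ho i hi).2.1.symm
        (fun t ht => by rw [(ho i hi).2.2 t ht, e', one_mul]) h
    · obtain ⟨a, b, c', d'⟩ := T.overlap hX hi (ho i hi).1 hc (ho i hi).2.1
        (fun t ht => by rw [(ho i hi).2.2 t ht, e']; ring) h.symm
      exact ⟨b, a, c'.symm, fun j hj => (d' j hj).symm⟩
  have hno : ∀ i ∈ Ico 1 r, ¬ (c ∈ cov S x r ∨ o i ∈ cov S x r) := by
    intro i hi h
    obtain ⟨hcA, hiA, -, hiff⟩ := hcl i hi h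
    have hccov : c ∈ cov S x r := by rw [T.cov_eq hX]; exact mem_union_left _ hcA
    obtain ⟨k, hk, hki⟩ : ∃ k ∈ Ico 1 r, k ≠ i := by
      by_cases h1 : i = 1
      · exact ⟨2, mem_Ico.2 ⟨by omega, by omega⟩, by omega⟩
      · exact ⟨1, mem_Ico.2 ⟨le_rfl, by omega⟩, Ne.symm h1⟩
    obtain ⟨-, hkA, -, hkiff⟩ := hcl k hk (Or.inl hccov)
    have h1 : 1 ∈ Ico 1 r := mem_Ico.2 ⟨le_rfl, by omega⟩
    rcases T.pair_or_compl hX (ho i hi).2.1.symm hcA hiA h1 (hiff 1 h1) with a | a <;>
      rcases T.pair_or_compl hX (ho k hk).2.1.symm hcA hkA h1 (hkiff 1 h1) with b | b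
    · have : o i ∈ ({c, o k} : Finset ι) := by rw [b, ← a]; simp
      simp only [mem_insert, mem_singleton] at this
      exact this.elim (ho i hi).2.1 fun e' => hki (hinj hk hi e'.symm)
    · have hc1 : c ∈ P 1 := a ▸ mem_insert_self c _
      have hc2 : c ∈ longSupp S x r \ P 1 := b ▸ mem_insert_self c _
      exact (mem_sdiff.1 hc2).2 hc1
    · have hc1 : c ∈ P 1 := b ▸ mem_insert_self c _
      have hc2 : c ∈ longSupp S x r \ P 1 := a ▸ mem_insert_self c _
      exact (mem_sdiff.1 hc2).2 hc1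
    · have : o i ∈ ({c, o k} : Finset ι) := by rw [b, ← a]; simp
      simp only [mem_insert, mem_singleton] at this
      exact this.elim (ho i hi).2.1 fun e' => hki (hinj hk hi e'.symm)
  rw [disjoint_insert_right]
  refine ⟨fun h => hno 1 (mem_Ico.2 ⟨le_rfl, by omega⟩) (Or.inl h), ?_⟩
  refine disjoint_left.2 fun t ht h => ?_
  obtain ⟨i, hi, rfl⟩ := mem_image.1 h
  exact hno i hi (Or.inr ht)

/-- A row of the regular form at a remaining member. -/
structure IsRow (S : Finset ι) (x y : ℕ → ι → ℤ) (r : ℕ) (t₀ : ι) (v : ι → ℤ) : Prop where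
  unit : ∀ t ∈ longSupp S x r, v t = 1 ∨ v t = -1
  zero : ∀ t ∈ S, t ∉ longSupp S x r → t ≠ t₀ → v t = 0
  self : t₀ ∈ rem S x y r
  orthX : ∀ i ∈ Finset.Icc 1 r, ∑ t ∈ S, x i t * v t = 0
  orthY : ∀ i ∈ Finset.Ico 1 r, ∑ t ∈ S, y i t * v t = 0

omit T in
theorem IsRow.sum_pair_eq (hX : XShape S x r P e s) (T : Data S x y r d) {t₀ : ι} {v : ι → ℤ}
    (hv : IsRow S x y r t₀ v) {j : ℕ} (hj : j ∈ Ico 1 r) : ∑ t ∈ P j, x r t * v t = 0 := by
  have h := hv.orthX j (mem_Icc.2 ⟨(mem_Ico.1 hj).1, (mem_Ico.1 hj).2.le⟩)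
  have hne : e j ≠ t₀ := fun h' => by
    have := (mem_filter.1 hv.self).2.1
    rw [T.cov_eq hX] at this
    exact this (mem_union_right _ (h' ▸ mem_image_of_mem e hj))
  rw [T.sum_x_mul hX hj, hv.zero _ (hX.mem j hj) (hX.notMem j hj) hne, mul_zero, add_zero] at h
  exact h

omit T in
theorem IsRow.sum_long (T : Data S x y r d) {t₀ : ι} {v : ι → ℤ} (hv : IsRow S x y r t₀ v) :
    ∑ t ∈ longSupp S x r, x r t * v t = 0 := by
  rw [← T.sum_r_mul]
  exact hv.orthX r T.tab.q_mem

omit T in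
theorem IsRow.prod_unit (T : Data S x y r d) {t₀ : ι} {v : ι → ℤ} (hv : IsRow S x y r t₀ v) {t : ι}
    (ht : t ∈ longSupp S x r) : x r t * v t = 1 ∨ x r t * v t = -1 := by
  have h1 := (T.tab.abs_q (mem_filter.1 ht).1).resolve_left (mem_filter.1 ht).2
  rcases h1 with a | a <;> rcases hv.unit t ht with b | b <;> simp [a, b]

theorem Data.no_row_exceptional (hX : XShape S x r P e s)
    (hex : r = 4 ∧ ∀ i ∈ Ico 1 r, ∀ j ∈ Ico 1 r, i ≠ j → e i = e j ∧ (P i ∩ P j).card = 1)
    {t₀ : ι} {v : ι → ℤ} (hv : IsRow S x y r t₀ v) : False := by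
  have m : ∀ k, 1 ≤ k → k < 4 → k ∈ Ico 1 r := fun k a b => mem_Ico.2 ⟨a, by omega⟩
  obtain ⟨a, b, c, f, hab, hac, haf, hbc, hbf, hcf, hA, h1, h2, h3⟩ :=
    three_pairs T.tab.card_longSupp (hX.sub 1 (m 1 le_rfl (by norm_num)))
      (hX.sub 2 (m 2 (by norm_num) (by norm_num))) (hX.sub 3 (m 3 (by norm_num) (by norm_num)))
      (hX.card 1 (m 1 le_rfl (by norm_num)))
      (hX.card 2 (m 2 (by norm_num) (by norm_num))) (hX.card 3 (m 3 (by norm_num) (by norm_num)))
      (hex.2 1 (m 1 le_rfl (by norm_num)) 2 (m 2 (by norm_num) (by norm_num)) (by norm_num)).2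
      (hex.2 1 (m 1 le_rfl (by norm_num)) 3 (m 3 (by norm_num) (by norm_num)) (by norm_num)).2
      (hex.2 2 (m 2 (by norm_num) (by norm_num)) 3 (m 3 (by norm_num) (by norm_num))
        (by norm_num)).2
  have e1 := hv.sum_pair_eq hX T (m 1 le_rfl (by norm_num))
  have e2 := hv.sum_pair_eq hX T (m 2 (by norm_num) (by norm_num))
  have e3 := hv.sum_pair_eq hX T (m 3 (by norm_num) (by norm_num))
  have e4 := hv.sum_long T
  rw [h1, sum_pair hab] at e1
  rw [h2, sum_pair hac] at e2
  rw [hA, sum_insert (by simp [hab, hac, haf]), sum_insert (by simp [hbc, hbf]), sum_pair hcf] at e4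
  have ua := hv.prod_unit T (show a ∈ longSupp S x r by rw [hA]; simp)
  rcases h3 with h3 | h3
  · rw [h3, sum_pair hbc] at e3
    omega
  · rw [h3, sum_pair haf] at e3
    omega

theorem Data.no_row_overlap (hX : XShape S x r P e s) (h2 : r = 2) {i : ℕ} (hi : i ∈ Ico 1 r)
    {p m : ι} (hp : p ∈ S) (hm : m ∈ S) (hpm : p ≠ m)
    (hval : ∀ t ∈ S, y i t = (if t = p then 1 else 0) - (if t = m then 1 else 0))
    (h : p ∈ cov S x r ∨ m ∈ cov S x r) {t₀ : ι} {v : ι → ℤ} (hv : IsRow S x y r t₀ v) : False := by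
  obtain ⟨hpA, hmA, hu, hiff⟩ := T.overlap hX hi hp hm hpm hval h
  have h1 : 1 ∈ Ico 1 r := mem_Ico.2 ⟨le_rfl, by omega⟩
  have hv1 := hv.orthY i hi
  rw [sum_congr rfl (g := fun t => (if t = p then v t else 0) - (if t = m then v t else 0))
    fun t ht => by rw [hval t ht, sub_mul, ite_mul, ite_mul, one_mul, zero_mul],
    sum_sub_distrib, sum_ite_eq', sum_ite_eq', if_pos hp, if_pos hm] at hv1
  have hpq : x r p * v p + x r m * v m = 0 := by
    rcases T.pair_or_compl hX hpm hpA hmA h1 (hiff 1 h1) with a | a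
    · have := hv.sum_pair_eq hX T h1
      rwa [← a, sum_pair hpm] at this
    · have e1 := hv.sum_pair_eq hX T h1
      have e2 := hv.sum_long T
      rw [← sum_sdiff (hX.sub 1 h1), e1, add_zero, ← a, sum_pair hpm] at e2
      exact e2
  rw [← hu, ← sub_eq_zero.1 hv1] at hpq
  rcases hv.prod_unit T hpA with e' | e' <;> omega

/-- The remaining members are few. -/
theorem Data.card_rem_le (hX : XShape S x r P e s) (v : ι → ι → ℤ)
    (hv : ∀ t ∈ rem S x y r, IsRow S x y r t (v t))
    (horth : ∀ t ∈ rem S x y r, ∀ t' ∈ rem S x y r, t ≠ t' → ∑ u ∈ S, v t u * v t' u = 0) :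
    (rem S x y r).card ≤ if r = 1 then 3 else 2 := by
  set A := longSupp S x r with hA
  have hdot : ∀ t ∈ rem S x y r, ∀ t' ∈ rem S x y r, t ≠ t' →
      ∑ u ∈ A, (x r u * v t u) * (x r u * v t' u) = 0 := fun t ht t' ht' hne => by
    rw [← horth t ht t' ht' hne, ← sum_subset (show A ⊆ S from filter_subset _ _) (fun u hu hn => ?_)]
    · refine sum_congr rfl fun u hu => ?_
      rcases (T.tab.abs_q (mem_filter.1 hu).1).resolve_left (mem_filter.1 hu).2 with a | a <;>
        rw [a] <;> ring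
    · by_cases e' : u = t
      · rw [e', (hv t' ht').zero t (mem_filter.1 ht).1 (e' ▸ hn) hne, mul_zero]
      · rw [(hv t ht).zero u hu hn e', zero_mul]
  by_cases hr : r = 1
  · rw [if_pos hr]
    obtain ⟨a, ha⟩ := card_pos.1 (by rw [hA, T.tab.card_longSupp]; norm_num : 0 < A.card)
    have hc : ∀ t ∈ rem S x y r, ∃ u ∈ A.erase a,
        ∀ w ∈ A.erase a, x r w * v t w = x r a * v t a ↔ w = u := by
      intro t ht
      have h := (hv t ht).sum_long T
      rw [← add_sum_erase _ _ ha] at h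
      have hc3 : (A.erase a).card = 3 := by rw [card_erase_of_mem ha, hA, T.tab.card_longSupp]
      obtain ⟨u, w, z, huw, huz, hwz, h3⟩ := card_eq_three.1 hc3
      rw [h3, sum_insert (by simp [huw, huz]), sum_pair hwz] at h
      have mA : ∀ k ∈ ({u, w, z} : Finset ι), k ∈ A := fun k hk =>
        (mem_erase.1 (h3 ▸ hk : k ∈ A.erase a)).2
      have pa := (hv t ht).prod_unit T ha
      have pu := (hv t ht).prod_unit T (mA u (by simp))
      have pw := (hv t ht).prod_unit T (mA w (by simp))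
      have pz := (hv t ht).prod_unit T (mA z (by simp))
      rw [h3]
      by_cases eu : x r u * v t u = x r a * v t a
      · exact ⟨u, by simp, fun k hk => by
          simp only [mem_insert, mem_singleton] at hk
          rcases hk with rfl | rfl | rfl <;> simp [eu, huw.symm, huz.symm] <;> omega⟩
      by_cases ew : x r w * v t w = x r a * v t a
      · exact ⟨w, by simp, fun k hk => by
          simp only [mem_insert, mem_singleton] at hk
          rcases hk with rfl | rfl | rfl <;> simp [ew, huw, hwz.symm] <;> omega⟩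
      exact ⟨z, by simp, fun k hk => by
          simp only [mem_insert, mem_singleton] at hk
          rcases hk with rfl | rfl | rfl <;> simp [huz, hwz] <;> omega⟩
    have : Nonempty ι := ⟨a⟩
    choose! f hf hfw using hc
    refine le_trans (card_le_card_of_injOn f hf fun t ht t' ht' he => ?_)
      (by rw [card_erase_of_mem ha, hA, T.tab.card_longSupp])
    by_contra hne
    have h := hdot t ht t' ht' hne
    have hsame : ∀ u ∈ A, (x r u * v t u) * (x r a * v t a) =
        (x r u * v t' u) * (x r a * v t' a) := by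
      intro u hu
      by_cases hua : u = a
      · subst hua
        rcases (hv t ht).prod_unit T hu with p | p <;>
          rcases (hv t' ht').prod_unit T hu with q | q <;> rw [p, q] <;> norm_num
      have hu' : u ∈ A.erase a := mem_erase.2 ⟨hua, hu⟩
      have i1 := hfw t ht u hu'
      have i2 := hfw t' ht' u hu'
      rw [he] at i1
      have i3 : x r u * v t u = x r a * v t a ↔ x r u * v t' u = x r a * v t' a := i1.trans i2.symm
      rcases (hv t ht).prod_unit T ha with p | p <;>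
        rcases (hv t' ht').prod_unit T ha with q | q <;>
        rcases (hv t ht).prod_unit T hu with p' | p' <;>
        rcases (hv t' ht').prod_unit T hu with q' | q' <;>
        first | (norm_num [p, q, p', q']; done) | (norm_num [p, q, p', q'] at i3)
    have h4 : ∑ u ∈ A, (x r u * v t u) * (x r u * v t' u) *
        ((x r a * v t a) * (x r a * v t' a)) = (A.card : ℤ) := by
      rw [← mul_one (A.card : ℤ), ← nsmul_eq_mul, ← sum_const]
      refine sum_congr rfl fun u hu => ?_
      calc (x r u * v t u) * (x r u * v t' u) * ((x r a * v t a) * (x r a * v t' a))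
          = ((x r u * v t u) * (x r a * v t a)) * ((x r u * v t' u) * (x r a * v t' a)) := by ring
        _ = 1 := by
          rw [hsame u hu]
          rcases (hv t' ht').prod_unit T hu with p | p <;>
            rcases (hv t' ht').prod_unit T ha with q | q <;> rw [p, q] <;> norm_num
    rw [← sum_mul, h, zero_mul, hA, T.tab.card_longSupp] at h4
    norm_num at h4
  · rw [if_neg hr]
    have h1 : 1 ∈ Ico 1 r := mem_Ico.2 ⟨le_rfl, by have := T.tab.one_le; omega⟩
    obtain ⟨a, b, hab, hP⟩ := card_eq_two.1 (hX.card 1 h1)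
    obtain ⟨c, f, hcf, hQ⟩ := card_eq_two.1 (show (A \ P 1).card = 2 by
      rw [hA, card_sdiff_of_subset (hX.sub 1 h1), hX.card 1 h1, T.tab.card_longSupp])
    have haA : a ∈ A := hX.sub 1 h1 (by simp [hP])
    have hcA : c ∈ A := (mem_sdiff.1 (hQ ▸ mem_insert_self c _ : c ∈ A \ P 1)).1
    have hrel : ∀ t ∈ rem S x y r, x r a * v t a + x r b * v t b = 0 ∧
        x r c * v t c + x r f * v t f = 0 := fun t ht => by
      have e1 := (hv t ht).sum_pair_eq hX T h1
      have e2 := (hv t ht).sum_long T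
      rw [← hA, ← sum_sdiff (hX.sub 1 h1), e1, add_zero, hQ, sum_pair hcf] at e2
      rw [hP, sum_pair hab] at e1
      exact ⟨e1, e2⟩
    let f2 : ι → Bool := fun t => decide (x r a * v t a = x r c * v t c)
    refine le_trans (card_le_card_of_injOn (t := (univ : Finset Bool)) f2 (fun t _ => mem_univ _)
      fun t ht t' ht' he => ?_) le_rfl
    by_contra hne
    have h := hdot t ht t' ht' hne
    rw [← sum_sdiff (hX.sub 1 h1), hQ, hP, sum_pair hcf, sum_pair hab] at h
    obtain ⟨r1, r2⟩ := hrel t ht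
    obtain ⟨r3, r4⟩ := hrel t' ht'
    simp only [f2, decide_eq_decide] at he
    rw [show x r b * v t b = -(x r a * v t a) by omega,
      show x r f * v t f = -(x r c * v t c) by omega,
      show x r b * v t' b = -(x r a * v t' a) by omega,
      show x r f * v t' f = -(x r c * v t' c) by omega] at h
    rcases (hv t ht).prod_unit T haA with p | p <;> rcases (hv t ht).prod_unit T hcA with p' | p' <;>
      rcases (hv t' ht').prod_unit T haA with q | q <;>
      rcases (hv t' ht').prod_unit T hcA with q' | q' <;>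
      first | (norm_num [p, p', q, q'] at h; done) | (norm_num [p, p', q, q'] at he; done)

end CfsgLib.Blocks.QuaternionDefect
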