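import Cfsg.Agent.Lib.Blocks.QuaternionDefect.Height
import Cfsg.Agent.Lib.Blocks.QuaternionDefect.Verdict
import Cfsg.Agent.Lib.Blocks.QuaternionDefect.Rows

/-!
# The invariants of a block with quaternion defect group, given the lower bound for `k - l`
-/

set_option autoImplicit false

namespace CfsgLib.Blocks.QuaternionDefect

open Cfsg CfsgLib.Blocks CfsgLib.Char CfsgLib.Pairs CfsgLib.Blocks.DihedralDefect
open scoped Classical ComplexConjugate

variable {ι : Type*}

/-- At a member met by the vectors of odd index their sum is odd. -/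
theorem Data.odd_sum_cyc {S : Finset ι} {x y : ℕ → ι → ℤ} {r : ℕ} {d : ι → ℤ}
    (T : Data S x y r d) (h2 : 2 ≤ r) {t : ι} (ht : t ∈ cyc S y r) :
    Odd (∑ i ∈ Finset.Ico 1 r, y i t) := by
  obtain ⟨c, hc, o, s, hs, hinj, ho⟩ := T.yshape h2
  have htS : t ∈ S := (Finset.mem_filter.1 ht).1
  obtain ⟨n, hn⟩ := T.tab.pow_two'
  have hev : 2 ∣ r := by
    rcases n with _ | n
    · simp at hn; omega
    · rw [hn]; exact dvd_pow_self 2 n.succ_ne_zero
  rw [Finset.sum_congr rfl fun i hi => (ho i hi).2.2 t htS, ← Finset.mul_sum, Finset.sum_sub_distrib,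
    Finset.sum_const, Nat.card_Ico, nsmul_eq_mul, Int.odd_mul]
  refine ⟨by rcases hs with e | e <;> rw [e] <;> decide, ?_⟩
  rw [T.cyc_eq hc hs h2 ho, Finset.mem_insert, Finset.mem_image] at ht
  rcases ht with e | ⟨j, hj, e⟩
  · subst e
    rw [if_pos rfl, Finset.sum_eq_zero fun i hi => if_neg (ho i hi).2.1.symm]
    obtain ⟨m, hm⟩ := hev
    exact ⟨(m : ℤ) - 1, by omega⟩
  · subst e
    rw [if_neg (ho j hj).2.1, Finset.sum_eq_single j
      (fun i hi hne => if_neg fun h => hne (hinj hi hj h.symm)) (fun h => absurd hj h), if_pos rfl]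
    exact ⟨-1, by ring⟩

/-- The members split into the three kinds. -/
theorem Data.card_eq {S : Finset ι} {x y : ℕ → ι → ℤ} {r : ℕ} :
    S.card ≤ (cov S x r).card + (cyc S y r).card + (rem S x y r).card ∧
      (Disjoint (cov S x r) (cyc S y r) →
        S.card = (cov S x r).card + (cyc S y r).card + (rem S x y r).card) := by
  have hu : cov S x r ∪ cyc S y r ∪ rem S x y r = S := by
    ext t
    simp only [cov, cyc, rem, IsRem, Finset.mem_union, Finset.mem_filter]
    tauto
  refine ⟨?_, fun hd => ?_⟩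
  · conv_lhs => rw [← hu]
    exact (Finset.card_union_le _ _).trans (Nat.add_le_add_right (Finset.card_union_le _ _) _)
  · conv_lhs => rw [← hu]
    rw [Finset.card_union_of_disjoint, Finset.card_union_of_disjoint hd]
    refine Finset.disjoint_left.2 fun t ht h => ?_
    obtain ⟨-, h1, h2⟩ := Finset.mem_filter.1 h
    exact (Finset.mem_union.1 ht).elim h1 h2

/-- The configurations of the vectors. -/
inductive Config (S : Finset ι) (x y : ℕ → ι → ℤ) (r : ℕ) : Prop
  | regular (hd : Disjoint (cov S x r) (cyc S y r)) (hcov : (cov S x r).card = r + 3)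
      (hrem : (rem S x y r).card ≤ if r = 1 then 3 else 2)
      (hodd : ∀ t ∈ cov S x r, t ∉ longSupp S x r → Odd (∑ i ∈ Finset.Ico 1 r, x i t))
  | exceptional (hr : r = 4) (hd : Disjoint (cov S x r) (cyc S y r))
      (hcov : (cov S x r).card = 5) (hrem : rem S x y r = ∅)
  | overlap (hr : r = 2) (hd : ¬ Disjoint (cov S x r) (cyc S y r)) (hcard : S.card ≤ 5)

theorem Data.config {S : Finset ι} {x y : ℕ → ι → ℤ} {r : ℕ} {d : ι → ℤ}
    (T : Data S x y r d) (v : ι → ι → ℤ)
    (hv : ∀ t ∈ rem S x y r, IsRow S x y r t (v t))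
    (horth : ∀ t ∈ rem S x y r, ∀ t' ∈ rem S x y r, t ≠ t' → ∑ u ∈ S, v t u * v t' u = 0) :
    Config S x y r := by
  obtain ⟨P, e, s, hX⟩ := T.tab.exists_shape
  have hdisA : ∀ j ∈ Finset.Ico 1 r, e j ∉ longSupp S x r := hX.notMem
  rcases hX.cases with ⟨hinj, hP⟩ | hex
  · have hcov : (cov S x r).card = r + 3 := by
      rw [T.cov_eq hX, Finset.card_union_of_disjoint (Finset.disjoint_left.2 fun t ht h => by
          obtain ⟨j, hj, rfl⟩ := Finset.mem_image.1 h
          exact hdisA j hj ht), T.tab.card_longSupp, Finset.card_image_of_injOn hinj, Nat.card_Ico]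
      have := T.tab.one_le
      omega
    by_cases hd : Disjoint (cov S x r) (cyc S y r)
    · refine .regular hd hcov (T.card_rem_le hX v hv horth) fun t ht htA => ?_
      rw [T.cov_eq hX, Finset.mem_union] at ht
      obtain ⟨j, hj, e'⟩ := Finset.mem_image.1 (ht.resolve_left htA)
      subst e'
      rw [Finset.sum_eq_single j (fun i hi hne => ?_) (fun h => absurd hj h),
        hX.val j hj _ (hX.mem j hj), if_neg fun h => hdisA j hj (hX.sub j hj h), if_pos rfl, zero_add]
      · rcases hX.sign j hj with e' | e' <;> rw [e'] <;> decide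
      · rw [hX.val i hi _ (hX.mem j hj), if_neg fun h => hdisA j hj (hX.sub i hi h),
          if_neg fun h => hne (hinj hi hj h.symm), zero_add]
    · have hr : r = 2 := by
        have h1 := T.tab.one_le
        by_contra hne
        by_cases h3 : 3 ≤ r
        · exact hd (T.not_overlap_large hX h3 hP)
        · exact hd (by rw [cyc_eq_empty (by omega)]; exact Finset.disjoint_empty_right _)
      obtain ⟨t, htc, hty⟩ := Finset.not_disjoint_iff.1 hd
      obtain ⟨htS, i, hi, hne⟩ := Finset.mem_filter.1 hty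
      obtain ⟨p, hp, m, hm, hpm, hval⟩ := T.ypair hi
      rw [hval t htS] at hne
      have hpt : p ∈ cov S x r ∨ m ∈ cov S x r := by
        by_contra hh
        rw [if_neg fun h => hh (Or.inl (by rw [← h]; exact htc)), if_neg fun h => hh (Or.inr (by rw [← h]; exact htc))] at hne
        simp at hne
      have hrem : rem S x y r = ∅ := Finset.eq_empty_of_forall_notMem fun u hu =>
        T.no_row_overlap hX hr hi hp hm hpm hval hpt (hv u hu)
      obtain ⟨hpA, hmA, -, -⟩ := T.overlap hX hi hp hm hpm hval hpt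
      refine .overlap hr hd (le_trans (Finset.card_le_card (t := cov S x r) fun u hu => ?_)
        (by rw [hcov, hr]))
      have hu3 : u ∈ cov S x r ∨ u ∈ cyc S y r ∨ u ∈ rem S x y r := by
        by_cases h1 : u ∈ cov S x r
        · exact Or.inl h1
        by_cases h2 : u ∈ cyc S y r
        · exact Or.inr (Or.inl h2)
        exact Or.inr (Or.inr (Finset.mem_filter.2 ⟨hu, h1, h2⟩))
      rw [hrem] at hu3
      rcases hu3 with h | h | h
      · exact h
      · obtain ⟨huS, k, hk, hne'⟩ := Finset.mem_filter.1 h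
        obtain rfl : k = i := by rw [Finset.mem_Ico] at hi hk; omega
        rw [hval u huS] at hne'
        rw [T.cov_eq hX]
        refine Finset.mem_union_left _ ?_
        by_cases e1 : u = p
        · exact e1 ▸ hpA
        by_cases e2 : u = m
        · exact e2 ▸ hmA
        rw [if_neg e1, if_neg e2] at hne'
        simp at hne'
      · exact absurd h (Finset.notMem_empty u)
  · refine .exceptional hex.1 (T.not_overlap_exceptional hX hex) ?_
      (Finset.eq_empty_of_forall_notMem fun u hu => T.no_row_exceptional hX hex (hv u hu))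
    have h1 : 1 ∈ Finset.Ico 1 r := Finset.mem_Ico.2 ⟨le_rfl, by omega⟩
    have himg : (Finset.Ico 1 r).image e = {e 1} := by
      ext t
      rw [Finset.mem_image, Finset.mem_singleton]
      refine ⟨fun ⟨j, hj, h⟩ => ?_, fun h => ⟨1, h1, h.symm⟩⟩
      by_cases hj1 : j = 1
      · rw [← h, hj1]
      · rw [← h, (hex.2 j hj 1 h1 hj1).1]
    rw [T.cov_eq hX, himg, Finset.union_comm, ← Finset.insert_eq,
      Finset.card_insert_of_notMem (hdisA 1 h1), T.tab.card_longSupp]

variable {G : Type*} [Group G] [Fintype G] {M : Ideal AlgInt} [M.IsPrime] [Fact (Nat.Prime 2)]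
  {B : Set (IrrCharacter G)}
  {K : Subgroup G} {b : Set (IrrCharacter K)} {D : Subgroup K} {σ τ : K} {r : ℕ}
  {l : Subgroup.zpowers σ →* ℂˣ}
  {e : Set (IrrCharacter (Subgroup.centralizer (D : Set K)))} {F : FusionSystem D}
  {ξ₀ : IrrCharacter K} {Φ : IrrCharacter D ≃ b} [Fintype (IrrCharacter D)]
  (C : Ctx M B b D σ τ r l e F ξ₀ Φ)
include C

theorem Ctx.sum_deg {f : K → ℂ} (hf : Adm D σ f) (v : IrrCharacter G → ℤ)
    (hv : ∀ χ : IrrCharacter G, classInner (indFun K (comb Φ f)) (χ : G → ℂ) = v χ) :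
    ∑ χ ∈ mems B, v χ * (charDegree (χ : G → ℂ) : ℤ) = 0 := by
  have h := C.sum_regular hf v hv (g := 1) (by simp)
  simp only [apply_one_eq_charDegree] at h
  exact_mod_cast h

theorem Ctx.data : Data (mems B) C.X C.Y r fun χ => (charDegree (χ : G → ℂ) : ℤ) :=
  ⟨⟨C.quat.one_le, C.quat.pow_two', fun _ hi _ hj => C.gram_X hi hj,
    fun j _ => C.sum_deg (C.adm_fX j) _ (C.X_spec j),
    fun χ _ => by exact_mod_cast charDegree_pos χ⟩,
    fun _ hi _ hj => C.gram_Y hi hj, fun j _ => C.sum_deg (C.adm_fY j) _ (C.Y_spec j),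
    fun _ hi _ hj => C.gram_XY hi hj⟩

/-- The long support, inside the block. -/
theorem Ctx.long_subset {χ : IrrCharacter G} (h : χ ∈ longSupp (mems B) C.X r) : χ ∈ B :=
  (Set.Finite.mem_toFinset _).1 (Finset.mem_filter.1 h).1

theorem Ctx.deg1_parity (χ : IrrCharacter G) : 2 ∣ (C.deg1 χ : ℤ) + C.X r χ := by
  have h := dvd_trans (dvd_mul_right (2 : ℤ) (r : ℤ)) (C.dvd_deg1_vectors χ)
  exact (dvd_add_left (dvd_mul_right _ _)).1 h

theorem Ctx.odd_deg1 {χ : IrrCharacter G} (h : χ ∈ longSupp (mems B) C.X r) : Odd (C.deg1 χ) := by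
  have h1 := C.deg1_parity χ
  rw [← Int.odd_coe_nat]
  rcases (C.data.tab.abs_q (Finset.mem_filter.1 h).1).resolve_left (Finset.mem_filter.1 h).2
    with e' | e' <;> rw [e'] at h1 <;> rw [Int.odd_iff] <;> omega

theorem Ctx.height_data {χ : IrrCharacter G} (hχ : χ ∈ B) :
    C.deg1 χ ≠ 0 ∧ blockHeight 2 B (χ : G → ℂ) = (C.deg1 χ).factorization 2 := by
  obtain ⟨a, ha⟩ := Finset.card_pos.1
    (by rw [C.data.tab.card_longSupp]; norm_num : 0 < (longSupp (mems B) C.X r).card)
  exact C.height_eq (C.long_subset ha) (C.odd_deg1 ha) hχ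

theorem Ctx.height_zero_iff {χ : IrrCharacter G} (hχ : χ ∈ B) :
    blockHeight 2 B (χ : G → ℂ) = 0 ↔ χ ∈ longSupp (mems B) C.X r := by
  obtain ⟨hne, hh⟩ := C.height_data hχ
  rw [hh, Nat.factorization_eq_zero_iff]
  constructor
  · intro h
    have h2 : ¬ 2 ∣ C.deg1 χ := by
      rcases h with h | h | h
      · exact absurd Nat.prime_two h
      · exact h
      · exact absurd h hne
    refine Finset.mem_filter.2 ⟨(Set.Finite.mem_toFinset _).2 hχ, fun h0 => h2 ?_⟩
    have h1 := C.deg1_parity χ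
    rw [h0, add_zero] at h1
    exact_mod_cast h1
  · intro h
    exact Or.inr (Or.inl (Nat.two_dvd_ne_zero.2 (Nat.odd_iff.1 (C.odd_deg1 h))))

theorem Ctx.height_one {χ : IrrCharacter G} (hχ : χ ∈ B) (hr : 2 ≤ r)
    (hA : χ ∉ longSupp (mems B) C.X r)
    (h : Odd (∑ i ∈ Finset.Ico 1 r, C.X i χ - ∑ i ∈ Finset.Ico 1 r, C.Y i χ)) :
    blockHeight 2 B (χ : G → ℂ) = 1 := by
  obtain ⟨hne, hh⟩ := C.height_data hχ
  obtain ⟨n, hn⟩ := C.quat.pow_two'
  have h4 : (4 : ℤ) ∣ 2 * (r : ℤ) := by
    rcases n with _ | n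
    · simp at hn; omega
    · exact ⟨(2 ^ n : ℕ), by rw [hn]; push_cast; ring⟩
  have h1 := h4.trans (C.dvd_deg1_vectors χ)
  have h0 : C.X r χ = 0 :=
    not_not.1 fun h0 => hA (Finset.mem_filter.2 ⟨(Set.Finite.mem_toFinset _).2 hχ, h0⟩)
  obtain ⟨m, hm⟩ := h
  rw [h0, hm] at h1
  have h2 : C.deg1 χ % 4 = 2 := by omega
  rw [hh]
  obtain ⟨w, hw, hw2⟩ := exists_factorization (p := 2) hne
  set k := (C.deg1 χ).factorization 2
  rcases k with _ | _ | k
  · simp at hw; omega
  · rfl
  · rw [hw, pow_succ, pow_succ] at h2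
    have : 4 ∣ 2 ^ k * 2 * 2 * w := ⟨2 ^ k * w, by ring⟩
    omega

theorem Ctx.height_rem {χ : IrrCharacter G} (h : χ ∈ rem (mems B) C.X C.Y r) :
    blockHeight 2 B (χ : G → ℂ) + 2 = blockDefect 2 B ∧ blockHeight 2 B (χ : G → ℂ) ≠ 0 := by
  obtain ⟨hS, hc, hy⟩ := Finset.mem_filter.1 h
  have hχ : χ ∈ B := (Set.Finite.mem_toFinset _).1 hS
  obtain ⟨hne, hh⟩ := C.height_data hχ
  have hX : ∀ i ∈ Finset.Icc 1 r, C.X i χ = 0 := fun i hi =>
    not_not.1 fun h0 => hc (Finset.mem_filter.2 ⟨hS, i, hi, h0⟩)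
  have hY : ∀ i ∈ Finset.Ico 1 r, C.Y i χ = 0 := fun i hi =>
    not_not.1 fun h0 => hy (Finset.mem_filter.2 ⟨hS, i, hi, h0⟩)
  have h1 := C.dvd_deg1_vectors χ
  rw [hX r C.data.tab.q_mem, Finset.sum_eq_zero fun i hi =>
      hX i (Finset.mem_Icc.2 ⟨(Finset.mem_Ico.1 hi).1, (Finset.mem_Ico.1 hi).2.le⟩),
    Finset.sum_eq_zero hY] at h1
  simp only [add_zero, sub_zero, mul_zero] at h1
  obtain ⟨n, hn⟩ := C.quat.pow_two'
  have h2 : 2 ^ (n + 1) ∣ C.deg1 χ := by
    rw [show (r : ℤ) = 2 ^ n by exact_mod_cast hn] at h1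
    exact_mod_cast (by push_cast at h1 ⊢; rwa [pow_succ'] :
      ((2 ^ (n + 1) : ℕ) : ℤ) ∣ (C.deg1 χ : ℤ))
  have h3 : n + 1 ≤ blockHeight 2 B (χ : G → ℂ) := by
    rw [hh]
    exact (Nat.Prime.pow_dvd_iff_le_factorization Nat.prime_two hne).1 h2
  have hd : blockDefect 2 B = n + 3 := by
    refine Nat.pow_right_injective le_rfl ?_
    show 2 ^ blockDefect 2 B = 2 ^ (n + 3)
    rw [C.pow, hn]
    ring
  have h4 := (CharAction.height_bound C.loc.modular C.block hχ (p := 2)).resolve_left (by omega)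
  omega

theorem Ctx.exists_rows : ∃ v : IrrCharacter G → IrrCharacter G → ℤ,
    (∀ t ∈ rem (mems B) C.X C.Y r, IsRow (mems B) C.X C.Y r t (v t)) ∧
    (∀ t ∈ rem (mems B) C.X C.Y r, ∀ t' ∈ rem (mems B) C.X C.Y r, t ≠ t' →
      ∑ u ∈ mems B, v t u * v t' u = 0) ∧
    ∀ t ∈ rem (mems B) C.X C.Y r, v t t = 2 ∧
      ∀ u : IrrCharacter G, ((2 ^ (Nat.card G).factorization 2 : ℕ) : ℂ) * zEntry 2 t u =
        ((2 : ℂ) ^ CharAction.degVal 2 (t : G → ℂ)) * (v t u : ℂ) := by
  have hA : ∀ a ∈ longSupp (mems B) C.X r, a ∈ B ∧ blockHeight 2 B (a : G → ℂ) = 0 :=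
    fun a ha => ⟨C.long_subset ha, (C.height_zero_iff (C.long_subset ha)).2 ha⟩
  choose! v hv hvA hvs hv0 using fun t (ht : t ∈ rem (mems B) C.X C.Y r) =>
    exists_row C.loc.modular C.block hA C.data.tab.card_longSupp
      ((Set.Finite.mem_toFinset _).1 (Finset.mem_filter.1 ht).1) (C.height_rem ht).1
      (C.height_rem ht).2
  have hz : ∀ t ∈ rem (mems B) C.X C.Y r, ∀ u : IrrCharacter G,
      ((2 ^ (Nat.card G).factorization 2 : ℕ) : ℂ) * zEntry 2 t u =
        ((2 : ℂ) ^ CharAction.degVal 2 (t : G → ℂ)) * (v t u : ℂ) := fun t ht u => by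
    rw [pow_mul_zEntry, hv t ht u]
    push_cast
    rfl
  have horth : ∀ t ∈ rem (mems B) C.X C.Y r, ∀ (f : K → ℂ), Adm D σ f →
      ∀ w : IrrCharacter G → ℤ,
        (∀ χ : IrrCharacter G, classInner (indFun K (comb Φ f)) (χ : G → ℂ) = w χ) →
          ∑ u ∈ mems B, w u * v t u = 0 := fun t ht f hf w hw => by
    refine Int.cast_injective (α := ℂ) ?_
    refine mul_left_cancel₀ (pow_ne_zero (CharAction.degVal 2 (t : G → ℂ))
      (two_ne_zero : (2 : ℂ) ≠ 0)) ?_
    push_cast
    rw [mul_zero, Finset.mul_sum]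
    rw [Finset.sum_congr rfl (g := fun u => ((2 ^ (Nat.card G).factorization 2 : ℕ) : ℂ) *
      ((w u : ℂ) * zEntry 2 t u)) fun u _ => by rw [mul_left_comm, ← hz t ht u, mul_left_comm],
      ← Finset.mul_sum, orth_regular (fun u => (w u : ℂ)) (mems B)
        (fun g hg => C.sum_regular hf w hw hg) t, mul_zero]
  refine ⟨v, fun t ht => ⟨hvA t ht, fun u hu huA hne =>
      hv0 t ht u ((Set.Finite.mem_toFinset _).1 hu) huA hne, ht,
      fun i _ => horth t ht _ (C.adm_fX i) _ (C.X_spec i),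
      fun i _ => horth t ht _ (C.adm_fY i) _ (C.Y_spec i)⟩,
    fun t ht t' ht' hne => ?_, fun t ht => ⟨hvs t ht, hz t ht⟩⟩
  have h := sum_regNum_mul C.loc.modular C.block (χ' := t')
    ((Set.Finite.mem_toFinset _).1 (Finset.mem_filter.1 ht).1) (p := 2)
  have htA : t' ∉ longSupp (mems B) C.X r := fun h' =>
    (C.height_rem ht').2 ((C.height_zero_iff (C.long_subset h')).2 h')
  simp only [hv t ht, hv t' ht', hv0 t ht t'
    ((Set.Finite.mem_toFinset _).1 (Finset.mem_filter.1 ht').1) htA hne.symm, mul_zero] at h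
  rw [Finset.sum_congr rfl (g := fun u => ((2 : ℤ) ^ CharAction.degVal 2 (t : G → ℂ) *
    2 ^ CharAction.degVal 2 (t' : G → ℂ)) * (v t u * v t' u)) fun u _ => by push_cast; ring,
    ← Finset.mul_sum] at h
  exact (mul_eq_zero.1 h).resolve_left (mul_ne_zero (pow_ne_zero _ two_ne_zero)
    (pow_ne_zero _ two_ne_zero))

theorem Ctx.config : Config (mems B) C.X C.Y r := by
  obtain ⟨v, hv, horth, -⟩ := C.exists_rows
  exact C.data.config v hv horth

/-- The lower bound for the rank coming from the rows and the degrees. -/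
theorem Ctx.rem_add_le_blockRank (hd : Disjoint (cov (mems B) C.X r) (cyc (mems B) C.Y r)) :
    (rem (mems B) C.X C.Y r).card + (if r = 1 then 0 else 1) ≤ blockRank 2 B := by
  have hM := C.loc.modular
  obtain ⟨v, hv, -, hz⟩ := C.exists_rows
  set R := rem (mems B) C.X C.Y r with hR
  have hRB : ∀ t ∈ R, t ∈ B := fun t ht =>
    (Set.Finite.mem_toFinset _).1 (Finset.mem_filter.1 ht).1
  have hzero : ∀ t ∈ R, ∀ u ∈ mems B, u ∉ longSupp (mems B) C.X r → u ≠ t → zEntry 2 t u = 0 :=
    fun t ht u hu huA hne => by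
      refine mul_left_cancel₀ (pow_ne_zero' (G := G) (p := 2)) ?_
      rw [(hz t ht).2 u, (hv t ht).zero u hu huA hne, Int.cast_zero, mul_zero, mul_zero]
  have hself : ∀ t ∈ R, zEntry 2 t t ≠ 0 := fun t ht h0 => by
    have h := (hz t ht).2 t
    rw [h0, mul_zero, (hz t ht).1] at h
    simp at h
  have hRA : ∀ t ∈ R, t ∉ longSupp (mems B) C.X r := fun t ht h' =>
    (C.height_rem ht).2 ((C.height_zero_iff (C.long_subset h')).2 h')
  let row : R → mems B → ℂ := fun t u => zEntry 2 (t : IrrCharacter G) (u : IrrCharacter G)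
  have hli : LinearIndependent ℂ row := by
    rw [Fintype.linearIndependent_iff]
    intro c hc t
    have h := congrFun hc ⟨(t : IrrCharacter G), (Finset.mem_filter.1 t.2).1⟩
    rw [Finset.sum_apply, Finset.sum_eq_single t (fun t' _ hne => ?_)
      (fun hn => absurd (Finset.mem_univ _) hn), Pi.smul_apply, smul_eq_mul, Pi.zero_apply,
      mul_eq_zero] at h
    · exact h.resolve_right (hself t t.2)
    · rw [Pi.smul_apply, smul_eq_mul]
      show c t' * zEntry 2 _ _ = 0
      rw [hzero t' t'.2 _ (Finset.mem_filter.1 t.2).1 (hRA t t.2)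
        (fun h => hne (Subtype.ext h.symm)), mul_zero]
  by_cases hr : r = 1
  · rw [if_pos hr, add_zero]
    have := le_blockRank_of_independent hM C.block row
      (fun t => zMap_row hM C.block t (hRB t t.2)) hli
    rwa [Fintype.card_coe] at this
  rw [if_neg hr]
  have h2 : 2 ≤ r := by have := C.quat.one_le; omega
  obtain ⟨c, hc⟩ := Finset.card_pos.1
    (by rw [C.data.card_cyc h2]; omega : 0 < (cyc (mems B) C.Y r).card)
  let f : Option R → mems B → ℂ := fun o =>
    o.elim (fun χ : mems B => ((χ : IrrCharacter G) : G → ℂ) 1) row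
  have hf : LinearIndependent ℂ f := by
    rw [Fintype.linearIndependent_iff]
    intro a ha
    rw [Fintype.sum_option] at ha
    have hcS : c ∈ mems B := (Finset.mem_filter.1 hc).1
    have hcA : c ∉ longSupp (mems B) C.X r := fun h =>
      Finset.disjoint_left.1 hd (by
        exact Finset.mem_filter.2 ⟨hcS, r, C.data.tab.q_mem, (Finset.mem_filter.1 h).2⟩) hc
    have h := congrFun ha ⟨c, hcS⟩
    simp only [f, Option.elim, Pi.add_apply, Finset.sum_apply, Pi.smul_apply, smul_eq_mul,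
      Pi.zero_apply] at h
    rw [Finset.sum_eq_zero fun t _ => by
        rw [show row t ⟨c, hcS⟩ = 0 from hzero t t.2 c hcS hcA fun h =>
          (Finset.mem_filter.1 t.2).2.2 (h ▸ hc), mul_zero], add_zero, mul_eq_zero] at h
    have hn : a none = 0 := h.resolve_right (Char.IsIrr.apply_one_ne_zero c.2)
    simp only [hn, zero_smul, zero_add] at ha
    rintro (_ | t)
    · exact hn
    · exact Fintype.linearIndependent_iff.1 hli (fun t => a (some t)) ha t
  have := le_blockRank_of_independent hM C.block f (fun o => by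
    cases o with
    | none => exact zMap_degree hM C.block
    | some t => exact zMap_row hM C.block t (hRB t t.2)) hf
  rwa [Fintype.card_option, Fintype.card_coe] at this

theorem Ctx.one_le_blockRank : 1 ≤ blockRank 2 B := by
  obtain ⟨χ, hχ⟩ := IsPBlock.nonempty C.block
  have hne : pRegularPart 2 (χ : G → ℂ) ≠ 0 := fun e => by
    have := congrFun e 1
    rw [pRegularPart, if_pos (show IsPRegular 2 (1 : G) by simp [IsPRegular])] at this
    exact Char.IsIrr.apply_one_ne_zero χ.2 this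
  rw [blockRank, ← finrank_span_singleton (K := ℂ) hne]
  exact Submodule.finrank_mono (Submodule.span_mono (Set.singleton_subset_iff.2 ⟨χ, hχ, rfl⟩))

/-- The invariants, given the lower bound for `k - l`. -/
theorem Ctx.invariants (hkl : blockRank 2 B + 2 * r + 2 ≤ Nat.card B) :
    1 ≤ blockRank 2 B ∧ blockRank 2 B ≤ 3 ∧ Nat.card B = blockRank 2 B + 2 * r + 2 ∧
      Nat.card {χ : IrrCharacter G // χ ∈ B ∧ blockHeight 2 B (χ : G → ℂ) = 0} = 4 ∧
      (∀ χ ∈ B, blockHeight 2 B (χ : G → ℂ) = 0 ∨ blockHeight 2 B (χ : G → ℂ) = 1 ∨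
        blockHeight 2 B (χ : G → ℂ) + 2 = blockDefect 2 B) ∧
      (2 ≤ r →
        Nat.card {χ : IrrCharacter G // χ ∈ B ∧ blockHeight 2 B (χ : G → ℂ) = 1} = 2 * r - 1) := by
  have hk : Nat.card B = (mems B).card := by
    rw [Nat.card_coe_set_eq, Set.ncard_eq_toFinset_card B (Set.toFinite B)]
  have hsplit := Data.card_eq (S := mems B) (x := C.X) (y := C.Y) (r := r)
  have hmem : ∀ χ : IrrCharacter G, χ ∈ mems B ↔ χ ∈ B := fun χ => Set.Finite.mem_toFinset _
  have hcount : ∀ (h : ℕ) (T : Finset (IrrCharacter G)), T ⊆ mems B →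
      (∀ χ ∈ B, blockHeight 2 B (χ : G → ℂ) = h ↔ χ ∈ T) →
      Nat.card {χ : IrrCharacter G // χ ∈ B ∧ blockHeight 2 B (χ : G → ℂ) = h} = T.card :=
    fun h T hT hiff => by
    rw [← Fintype.card_coe, ← Nat.card_eq_fintype_card]
    exact Nat.card_congr (Equiv.subtypeEquivRight fun χ =>
      ⟨fun hh => (hiff χ hh.1).1 hh.2, fun hh => ⟨(hmem χ).1 (hT hh),
        (hiff χ ((hmem χ).1 (hT hh))).2 hh⟩⟩)
  have hr1 := C.quat.one_le
  rcases C.config with ⟨hd, hcov, hrem, hoddX⟩ | ⟨hr, hd, hcov, hrem⟩ | ⟨hr, -, hcard⟩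
  · have hl := C.rem_add_le_blockRank hd
    have hS := hsplit.2 hd
    have hcyc : (cyc (mems B) C.Y r).card = if r = 1 then 0 else r := by
      split_ifs with h1
      · rw [cyc_eq_empty (by omega), Finset.card_empty]
      · exact C.data.card_cyc (by omega)
    rw [hcov, hcyc] at hS
    have hone := C.one_le_blockRank
    have h1h : ∀ χ ∈ B, χ ∉ longSupp (mems B) C.X r → χ ∉ rem (mems B) C.X C.Y r →
        blockHeight 2 B (χ : G → ℂ) = 1 := fun χ hχ hA hR => by
      have hχS := (hmem χ).2 hχ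
      by_cases hc : χ ∈ cov (mems B) C.X r
      · have h2 : 2 ≤ r := by
          obtain ⟨i, hi, hne⟩ := (Finset.mem_filter.1 hc).2
          rw [Finset.mem_Icc] at hi
          by_contra hh
          exact hA (Finset.mem_filter.2 ⟨hχS, (show i = r by omega) ▸ hne⟩)
        refine C.height_one hχ h2 hA ?_
        rw [Finset.sum_eq_zero (f := fun i => C.Y i χ) fun i hi => not_not.1 fun h0 =>
          Finset.disjoint_left.1 hd hc (Finset.mem_filter.2 ⟨hχS, i, hi, h0⟩), sub_zero]
        exact hoddX χ hc hA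
      · have hy : χ ∈ cyc (mems B) C.Y r := by
          by_contra hy
          exact hR (Finset.mem_filter.2 ⟨hχS, hc, hy⟩)
        have h2 : 2 ≤ r := by
          by_contra hh
          rw [cyc_eq_empty (by omega)] at hy
          exact Finset.notMem_empty _ hy
        refine C.height_one hχ h2 hA ?_
        rw [Finset.sum_eq_zero (f := fun i => C.X i χ) fun i hi => not_not.1 fun h0 =>
          hc (Finset.mem_filter.2 ⟨hχS, i,
            Finset.mem_Icc.2 ⟨(Finset.mem_Ico.1 hi).1, (Finset.mem_Ico.1 hi).2.le⟩, h0⟩), zero_sub]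
        exact (C.data.odd_sum_cyc h2 hy).neg
    refine ⟨hone, ?_, ?_, ?_, fun χ hχ => ?_, fun h2 => ?_⟩
    · split_ifs at hrem hl hS <;> omega
    · split_ifs at hrem hl hS <;> omega
    · rw [hcount 0 (longSupp (mems B) C.X r) (Finset.filter_subset _ _)
        (fun χ hχ => C.height_zero_iff hχ), C.data.tab.card_longSupp]
    · by_cases hA : χ ∈ longSupp (mems B) C.X r
      · exact Or.inl ((C.height_zero_iff hχ).2 hA)
      by_cases hR : χ ∈ rem (mems B) C.X C.Y r
      · exact Or.inr (Or.inr (C.height_rem hR).1)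
      · exact Or.inr (Or.inl (h1h χ hχ hA hR))
    · have hd3 : 4 ≤ blockDefect 2 B := by
        by_contra hlt
        have := Nat.pow_le_pow_right (show 1 ≤ 2 by norm_num) (show blockDefect 2 B ≤ 3 by omega)
        rw [C.pow] at this
        omega
      have hsub1 : longSupp (mems B) C.X r ∪ rem (mems B) C.X C.Y r ⊆ mems B :=
        Finset.union_subset (Finset.filter_subset _ _) (Finset.filter_subset _ _)
      rw [hcount 1 (mems B \ (longSupp (mems B) C.X r ∪ rem (mems B) C.X C.Y r))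
        Finset.sdiff_subset (fun χ hχ => ?_), Finset.card_sdiff_of_subset hsub1,
        Finset.card_union_of_disjoint, C.data.tab.card_longSupp]
      · rw [if_neg (by omega : ¬ r = 1)] at hS
        omega
      · exact Finset.disjoint_left.2 fun t ht h =>
          (C.height_rem h).2 ((C.height_zero_iff (C.long_subset ht)).2 ht)
      · rw [Finset.mem_sdiff, Finset.mem_union, not_or]
        refine ⟨fun h => ⟨(hmem χ).2 hχ, fun hA => ?_, fun hR => ?_⟩, fun h => h1h χ hχ h.2.1 h.2.2⟩
        · rw [(C.height_zero_iff hχ).2 hA] at h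
          omega
        · have := (C.height_rem hR).1
          omega
  · exfalso
    have hS := hsplit.1
    rw [hcov, hrem, C.data.card_cyc (by omega), Finset.card_empty] at hS
    omega
  · exfalso
    omega

end CfsgLib.Blocks.QuaternionDefect
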