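import Cfsg.Agent.S4528
import Cfsg.Agent.Lib.Blocks.QuaternionDefect.Invariants
import Cfsg.Agent.Lib.Blocks.DefectBound.Quotient
import Cfsg.Agent.Lib.Blocks.QuotientDefect

/-!
# Quaternion defect group and involution in the centre

When the involution `z` of the defect group is central in the whole group, the members met by
the vectors of even index and those met by the vectors of odd index are told apart by the scalar
by which `z` acts, and the quotient by `⟨z⟩` has a block with dihedral defect group. This gives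
`k - l ≥ 2 r + 2`.
-/

set_option autoImplicit false

namespace CfsgLib.Blocks.QuaternionDefect

open Cfsg CfsgLib.Blocks CfsgLib.Char CfsgLib.Pairs CfsgLib.Star CfsgLib.Blocks.DihedralDefect
open scoped Classical ComplexConjugate

variable {G : Type*} [Group G] [Fintype G] {M : Ideal AlgInt} [M.IsPrime] [Fact (Nat.Prime 2)]
  {B : Set (IrrCharacter G)}

/-- The map of a quaternion group onto the dihedral group of half the order. -/
def toDih (m : ℕ) : QuaternionGroup m →* DihedralGroup m where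
  toFun x := match x with
    | .a i => DihedralGroup.r (ZMod.castHom (dvd_mul_left m 2) (ZMod m) i)
    | .xa i => DihedralGroup.sr (ZMod.castHom (dvd_mul_left m 2) (ZMod m) i)
  map_one' := by
    show DihedralGroup.r (ZMod.castHom (dvd_mul_left m 2) (ZMod m) 0) = 1
    rw [map_zero]; rfl
  map_mul' := by
    rintro (i | i) (j | j)
    · simp [QuaternionGroup.a_mul_a]
    · simp [QuaternionGroup.a_mul_xa]
    · simp [QuaternionGroup.xa_mul_a]
    · simp [QuaternionGroup.xa_mul_xa]

theorem toDih_surjective (m : ℕ) : Function.Surjective (toDih m) := by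
  rintro (t | t) <;> obtain ⟨i, hi⟩ := ZMod.castHom_surjective (dvd_mul_left m 2) t
  · exact ⟨.a i, congrArg DihedralGroup.r hi⟩
  · exact ⟨.xa i, congrArg DihedralGroup.sr hi⟩

omit [Fintype G] [Fact (Nat.Prime 2)] in
/-- The image of a quaternion subgroup modulo its involution is dihedral. -/
theorem nonempty_map_equiv {P : Subgroup G} {σ τ : G} {r : ℕ} {l : Subgroup.zpowers σ →* ℂˣ}
    (h : Quat P σ τ r l) (eP : P ≃* QuaternionGroup (2 * r))
    [(Subgroup.zpowers (σ ^ (2 * r))).Normal] :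
    Nonempty (P.map (QuotientGroup.mk' (Subgroup.zpowers (σ ^ (2 * r)))) ≃*
      DihedralGroup (2 * r)) := by
  have : Finite P := h.finite
  set π := QuotientGroup.mk' (Subgroup.zpowers (σ ^ (2 * r)))
  let g : P →* P.map π := π.subgroupMap P
  let f : P →* DihedralGroup (2 * r) := (toDih (2 * r)).comp eP.toMonoidHom
  have hg : Function.Surjective g := π.subgroupMap_surjective P
  have hf : Function.Surjective f := (toDih_surjective _).comp eP.surjective
  set zP : P := ⟨σ, h.memσ⟩ ^ (2 * r) with hzP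
  have hz : f zP = 1 := by
    rw [hzP, map_pow]
    generalize f ⟨σ, h.memσ⟩ = x
    rcases x with i | i
    · rw [DihedralGroup.r_pow, ZMod.natCast_self, mul_zero]; rfl
    · rw [pow_mul, pow_two, DihedralGroup.sr_mul_self, one_pow]
  have hle : g.ker ≤ f.ker := by
    intro x hx
    have h1 : (x : G) ∈ Subgroup.zpowers (σ ^ (2 * r)) :=
      (QuotientGroup.eq_one_iff _).1 (congrArg Subtype.val (MonoidHom.mem_ker.1 hx))
    obtain ⟨i, hi⟩ := Subgroup.mem_zpowers_iff.1 h1
    rw [MonoidHom.mem_ker, show x = zP ^ i from Subtype.ext (by simp [hzP, hi]), map_zpow, hz,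
      one_zpow]
  have h1 : g.ker = f.ker := by
    refine Subgroup.eq_of_le_of_card_ge hle ?_
    have h2 : Nat.card f.ker * (4 * r) = 8 * r := by
      rw [← h.card, ← Subgroup.card_mul_index f.ker, Subgroup.index_ker,
        MonoidHom.range_eq_top.2 hf, Subgroup.card_top, DihedralGroup.nat_card]
      ring
    have h3 : Nat.card f.ker = 2 := by
      have := h.one_le
      exact Nat.eq_of_mul_eq_mul_right (by omega : 0 < 4 * r) (by rw [h2]; ring)
    rw [h3]
    have hmem : zP ∈ g.ker := MonoidHom.mem_ker.2 (Subtype.ext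
      ((QuotientGroup.eq_one_iff _).2 (by simp [hzP])))
    have hne : (⟨zP, hmem⟩ : g.ker) ≠ 1 := fun e => h.z_ne (by
      simpa [hzP] using congrArg (fun x : g.ker => ((x : P) : G)) e)
    have : Nontrivial g.ker := ⟨⟨_, _, hne⟩⟩
    exact Finite.one_lt_card_iff_nontrivial.2 this
  exact ⟨((QuotientGroup.quotientKerEquivOfSurjective g hg).symm.trans
    (QuotientGroup.quotientMulEquivOfEq h1)).trans (QuotientGroup.quotientKerEquivOfSurjective f hf)⟩

variable {K : Subgroup G} {b : Set (IrrCharacter K)} {D : Subgroup K} {σ τ : K} {r : ℕ}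
  {l : Subgroup.zpowers σ →* ℂˣ}
  {e : Set (IrrCharacter (Subgroup.centralizer (D : Set K)))} {F : FusionSystem D}
  {ξ₀ : IrrCharacter K} {Φ : IrrCharacter D ≃ b} [Fintype (IrrCharacter D)]
  (C : Ctx M B b D σ τ r l e F ξ₀ Φ) (hz : ∀ g : G, Commute ((σ ^ (2 * r) : K) : G) g)
include C

omit [Fintype (IrrCharacter D)] in
theorem Ctx.zG_sq : ((σ ^ (2 * r) : K) : G) * ((σ ^ (2 * r) : K) : G) = 1 :=
  congrArg Subtype.val C.quat.z_sq

omit [Fintype (IrrCharacter D)] in
theorem Ctx.zG_ne : ((σ ^ (2 * r) : K) : G) ≠ 1 := fun e => C.quat.z_ne (Subtype.ext e)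

omit [Fintype (IrrCharacter D)] in
theorem Ctx.z_mem : σ ^ (2 * r) ∈ D := D.pow_mem C.quat.memσ _

include hz

omit [Fintype (IrrCharacter D)] C [M.IsPrime] [Fact (Nat.Prime 2)] [Fintype G] in
theorem z_central_of (g : K) : g * σ ^ (2 * r) = σ ^ (2 * r) * g :=
  Subtype.ext (hz (g : G)).symm.eq

omit [Fintype (IrrCharacter D)] in
/-- The scalar of the base character. -/
theorem Ctx.sign : ∃ ω : ℂ, (ω = 1 ∨ ω = -1) ∧
    (ξ₀ : K → ℂ) (σ ^ (2 * r)) = ω * (ξ₀ : K → ℂ) 1 := by
  have h := apply_central_mul ξ₀ (z_central_of hz) (σ ^ (2 * r))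
  rw [C.quat.z_sq] at h
  rcases mul_self_eq_mul_self_iff.1 h.symm with h | h
  · exact ⟨1, Or.inl rfl, by rw [h, one_mul]⟩
  · exact ⟨-1, Or.inr rfl, by rw [h, neg_one_mul]⟩

/-- The value at the involution of a member of the local block. -/
theorem Ctx.Φ_z (η : IrrCharacter D) :
    ((Φ η : IrrCharacter K) : K → ℂ) (σ ^ (2 * r)) =
      (η : D → ℂ) ⟨σ ^ (2 * r), C.z_mem⟩ * (ξ₀ : K → ℂ) (σ ^ (2 * r)) := by
  have e : (fun x : D => extP D (η : D → ℂ) (x : K)) = (η : D → ℂ) := funext (extP_coe D _)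
  have h1 : ((Φ η : IrrCharacter K) : K → ℂ) = comb Φ (extP D (η : D → ℂ)) := by
    simp only [comb, e, classInner_irr, ite_smul, one_smul, zero_smul, Finset.sum_ite_eq,
      Finset.mem_univ, if_true]
  have h2 := C.loc.comb_apply_const (a := extP D (η : D → ℂ)) (u := σ ^ (2 * r)) (s := 1)
    (by rw [e]; exact Char.IsIrr.isClassFunction η.2) ⟨1, by rw [pow_one, C.quat.z_ord]⟩ (by simp)
    (Commute.one_right _) (v := (η : D → ℂ) ⟨σ ^ (2 * r), C.z_mem⟩) fun x hx => ?_
  · rwa [mul_one, ← h1] at h2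
  rw [← extP_coe D (η : D → ℂ) ⟨σ ^ (2 * r), C.z_mem⟩]
  congr 1
  rw [z_central_of hz, mul_inv_cancel_right]

/-- A constituent of a member of `B` acts at `z` by the same scalar. -/
theorem Ctx.scalar_of_num {ω : ℂ} (hω : (ξ₀ : K → ℂ) (σ ^ (2 * r)) = ω * (ξ₀ : K → ℂ) 1)
    {η : IrrCharacter D} {χ : IrrCharacter G} (hn : C.num η χ ≠ 0) :
    (χ : G → ℂ) ((σ ^ (2 * r) : K) : G) * (η : D → ℂ) 1 =
      ω * (η : D → ℂ) ⟨σ ^ (2 * r), C.z_mem⟩ * (χ : G → ℂ) 1 := by
  have h1 := Char.IsIrr.apply_one_ne_zero χ.2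
  have h2 := Char.IsIrr.apply_one_ne_zero η.2
  have h3 := Char.IsIrr.apply_one_ne_zero ξ₀.2
  set t := (χ : G → ℂ) ((σ ^ (2 * r) : K) : G) / (χ : G → ℂ) 1 with ht
  have h4 := classInner_translate (fun k : K => (χ : G → ℂ) (k : G)) (Φ η : IrrCharacter K)
    (z_central_of hz)
  rw [show (fun k : K => (χ : G → ℂ) ((σ ^ (2 * r) * k : K) : G)) =
      t • fun k : K => (χ : G → ℂ) (k : G) from funext fun k => by
    rw [Pi.smul_apply, smul_eq_mul, ht, div_mul_eq_mul_div, eq_div_iff h1, Subgroup.coe_mul]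
    exact apply_central_mul χ (fun g => (hz g).symm.eq) _,
    classInner_smul_left, C.Φ_z hz η, C.Φ_regular η (w := 1) (by simp),
    ← classInner_conj_symm, C.num_spec, Complex.conj_natCast, hω] at h4
  have h5 := mul_right_cancel₀ (Nat.cast_ne_zero.2 hn) h4
  rw [ht, div_eq_div_iff h1 (mul_ne_zero h2 h3)] at h5
  refine mul_right_cancel₀ h3 ?_
  linear_combination h5

omit [Fintype (IrrCharacter D)] in
/-- A character of `D` is an eigenfunction of `z`. -/
theorem Ctx.η_sign (η : IrrCharacter D) : ∃ ε : ℂ, (ε = 1 ∨ ε = -1) ∧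
    (η : D → ℂ) ⟨σ ^ (2 * r), C.z_mem⟩ = ε * (η : D → ℂ) 1 ∧
    ∀ x : Subgroup.zpowers σ, extendByZero D (η : D → ℂ) (σ ^ (2 * r) * (x : K)) =
      ε * extendByZero D (η : D → ℂ) x := by
  set w : D := ⟨σ ^ (2 * r), C.z_mem⟩ with hw
  have hwc : ∀ y : D, y * w = w * y := fun y => Subtype.ext (z_central_of hz (y : K))
  have h1 := Char.IsIrr.apply_one_ne_zero η.2
  have h := apply_central_mul η hwc w
  rw [show w * w = 1 from Subtype.ext C.quat.z_sq] at h
  have key : ∀ ε : ℂ, (η : D → ℂ) w = ε * (η : D → ℂ) 1 →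
      ∀ x : Subgroup.zpowers σ, extendByZero D (η : D → ℂ) (σ ^ (2 * r) * (x : K)) =
        ε * extendByZero D (η : D → ℂ) x := fun ε hε x => by
    show extendByZero D (η : D → ℂ) ((w * ⟨x, C.quat.zpowers_le x.2⟩ : D) : K) =
      ε * extendByZero D (η : D → ℂ) ((⟨x, C.quat.zpowers_le x.2⟩ : D) : K)
    rw [extendByZero_coe', extendByZero_coe']
    have h2 := apply_central_mul η hwc ⟨x, C.quat.zpowers_le x.2⟩
    rw [hε] at h2
    refine mul_right_cancel₀ h1 ?_
    linear_combination h2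
  rcases mul_self_eq_mul_self_iff.1 h.symm with h | h
  · exact ⟨1, Or.inl rfl, by rw [h, one_mul], key 1 (by rw [h, one_mul])⟩
  · exact ⟨-1, Or.inr rfl, by rw [h, neg_one_mul], key (-1) (by rw [h, neg_one_mul])⟩

/-- The scalars of the members met by the two families of vectors. -/
theorem Ctx.scalar_cov {ω : ℂ} (hω : (ξ₀ : K → ℂ) (σ ^ (2 * r)) = ω * (ξ₀ : K → ℂ) 1)
    {χ : IrrCharacter G} :
    (χ ∈ cov (mems B) C.X r → (χ : G → ℂ) ((σ ^ (2 * r) : K) : G) = ω * (χ : G → ℂ) 1) ∧
      (χ ∈ cyc (mems B) C.Y r →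
        (χ : G → ℂ) ((σ ^ (2 * r) : K) : G) = -ω * (χ : G → ℂ) 1) := by
  have hdd : ∀ (η : IrrCharacter D) (j : ℕ),
      (C.dd η j : ℂ) = mult l (extendByZero D (η : D → ℂ)) 0 -
        mult l (extendByZero D (η : D → ℂ)) j := fun η j => by
    rw [← C.dd_spec, C.quat.classInner_dlt]
  have hsc : ∀ (η : IrrCharacter D) (ε : ℂ),
      (η : D → ℂ) ⟨σ ^ (2 * r), C.z_mem⟩ = ε * (η : D → ℂ) 1 → C.num η χ ≠ 0 →
        (χ : G → ℂ) ((σ ^ (2 * r) : K) : G) = ω * ε * (χ : G → ℂ) 1 := fun η ε hε hn => by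
    refine mul_right_cancel₀ (Char.IsIrr.apply_one_ne_zero η.2) ?_
    rw [C.scalar_of_num hz hω hn, hε]
    ring
  constructor
  · intro h
    obtain ⟨-, i, -, hne⟩ := Finset.mem_filter.1 h
    obtain ⟨η, -, hη⟩ := Finset.exists_ne_zero_of_sum_ne_zero
      (show ∑ η : IrrCharacter D, C.dd η (2 * i) * C.num η χ ≠ 0 from hne)
    obtain ⟨ε, hε, hεw, hev⟩ := C.η_sign hz η
    rcases hε with rfl | rfl
    · rw [hsc η 1 hεw (by simpa using (mul_ne_zero_iff.1 hη).2), mul_one]
    · exfalso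
      refine (mul_ne_zero_iff.1 hη).1 (Int.cast_injective (α := ℂ) ?_)
      rw [hdd, C.quat.mult_eq_zero hev (by simp), C.quat.mult_eq_zero hev (by simp [pow_mul]),
        sub_zero, Int.cast_zero]
  · intro h
    obtain ⟨-, i, -, hne⟩ := Finset.mem_filter.1 h
    have hY : ∑ η : IrrCharacter D, (C.dd η 1 - C.dd η (2 * i + 1)) * C.num η χ ≠ 0 := by
      simpa only [Ctx.Y, Ctx.xx, sub_mul, Finset.sum_sub_distrib] using hne
    obtain ⟨η, -, hη⟩ := Finset.exists_ne_zero_of_sum_ne_zero hY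
    obtain ⟨ε, hε, hεw, hev⟩ := C.η_sign hz η
    rcases hε with rfl | rfl
    · exfalso
      refine (mul_ne_zero_iff.1 hη).1 (Int.cast_injective (α := ℂ) ?_)
      rw [Int.cast_sub, hdd, hdd, C.quat.mult_eq_zero (j := 1) hev (by simp),
        C.quat.mult_eq_zero (j := 2 * i + 1) hev (by simp [pow_succ, pow_mul]), sub_self,
        Int.cast_zero]
    · rw [hsc η (-1) hεw (by simpa using (mul_ne_zero_iff.1 hη).2), mul_neg, mul_one]

theorem Ctx.disjoint_cov_cyc : Disjoint (cov (mems B) C.X r) (cyc (mems B) C.Y r) := by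
  obtain ⟨ω, hω, hωξ⟩ := C.sign hz
  refine Finset.disjoint_left.2 fun χ h h' => ?_
  have h1 := (C.scalar_cov hz hωξ).1 h
  rw [(C.scalar_cov hz hωξ).2 h', neg_mul, neg_eq_iff_add_eq_zero, ← two_mul, mul_eq_zero,
    mul_eq_zero] at h1
  refine h1.elim two_ne_zero fun h2 => h2.elim (fun h3 => ?_) (Char.IsIrr.apply_one_ne_zero χ.2)
  rcases hω with e | e <;> rw [e] at h3 <;> norm_num at h3

omit [Fintype (IrrCharacter D)] in
theorem Ctx.two_dvd_translate {g : G} (hg : ¬ 2 ∣ orderOf g) :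
    2 ∣ orderOf (((σ ^ (2 * r) : K) : G) * g) := by
  have h2 : orderOf ((σ ^ (2 * r) : K) : G) = 2 := by rw [Subgroup.orderOf_coe, C.quat.z_ord]
  rw [(hz g).orderOf_mul_eq_mul_orderOf_of_coprime
    (by rw [h2]; exact (Nat.Prime.coprime_iff_not_dvd Nat.prime_two).2 hg), h2]
  exact dvd_mul_right _ _

/-- The upper bound for the rank. -/
theorem Ctx.blockRank_le :
    blockRank 2 B ≤ (rem (mems B) C.X C.Y r).card + (if r = 1 then 0 else 1) := by
  have hM := C.loc.modular
  obtain ⟨ω, hω, hωξ⟩ := C.sign hz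
  set R := rem (mems B) C.X C.Y r with hR
  obtain ⟨J, hJcard, hRJ, hJ⟩ : ∃ J : Finset (IrrCharacter G),
      J.card ≤ R.card + (if r = 1 then 0 else 1) ∧ R ⊆ J ∧
      ∀ w : IrrCharacter G → ℂ,
        (∀ i ∈ Finset.Ico 1 r, ∑ t ∈ mems B, (C.Y i t : ℂ) * w t = 0) →
        (∀ t ∈ J, t ∈ mems B → w t = 0) → ∀ t ∈ cyc (mems B) C.Y r, w t = 0 := by
    by_cases hr : r = 1
    · refine ⟨R, by simp [hr], subset_rfl, fun w _ _ t ht => ?_⟩
      rw [cyc_eq_empty (by omega)] at ht
      exact absurd ht (Finset.notMem_empty t)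
    · obtain ⟨c, hc, hcw⟩ := C.data.exists_cyc_const (by have := C.quat.one_le; omega)
      refine ⟨insert c R, ?_, Finset.subset_insert _ _, fun w hw hw0 t ht => ?_⟩
      · rw [if_neg hr]; exact Finset.card_insert_le _ _
      · rw [hcw w hw t ht]
        exact hw0 c (Finset.mem_insert_self _ _) (Finset.mem_filter.1 hc).1
  refine le_trans ?_ hJcard
  let π : (mems B → ℂ) →ₗ[ℂ] (J → ℂ) :=
    { toFun := fun w t => if h : (t : IrrCharacter G) ∈ mems B then w ⟨t, h⟩ else 0
      map_add' := fun w w' => by funext t; simp only [Pi.add_apply]; split <;> simp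
      map_smul' := fun a w => by
        funext t; simp only [Pi.smul_apply, smul_eq_mul, RingHom.id_apply]; split <;> simp }
  refine le_trans (blockRank_le_of_injective hM C.block π fun w hw hπ => ?_)
    (le_of_eq (by rw [Module.finrank_fintype_fun_eq_card, Fintype.card_coe]))
  set W : IrrCharacter G → ℂ := fun t => if h : t ∈ mems B then w ⟨t, h⟩ else 0 with hW
  have hWw : ∀ t : mems B, W (t : IrrCharacter G) = w t := fun t => dif_pos t.2
  have hZ : ∀ t ∈ mems B, W t = ∑ u ∈ mems B, zEntry 2 t u * W u := fun t ht => by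
    rw [hWw ⟨t, ht⟩]
    conv_lhs => rw [← hw, zMap_apply]
    rw [← Finset.sum_coe_sort (mems B) (fun u => zEntry 2 t u * W u)]
    exact Finset.sum_congr rfl fun u _ => by rw [hWw]
  have hY : ∀ i ∈ Finset.Ico 1 r, ∑ t ∈ mems B, (C.Y i t : ℂ) * W t = 0 := fun i _ => by
    rw [Finset.sum_congr rfl fun t ht => by rw [hZ t ht, Finset.mul_sum], Finset.sum_comm]
    refine Finset.sum_eq_zero fun u _ => ?_
    rw [Finset.sum_congr rfl (g := fun t => W u * ((C.Y i t : ℂ) * zEntry 2 u t)) fun t _ => by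
      rw [zEntry_comm]; ring, ← Finset.mul_sum,
      orth_regular (fun t => (C.Y i t : ℂ)) (mems B)
        (fun g hg => C.sum_regular (C.adm_fY i) _ (C.Y_spec i) hg) u, mul_zero]
  have hJ0 : ∀ t ∈ J, t ∈ mems B → W t = 0 := fun t ht htB => by
    have := congrFun hπ ⟨t, ht⟩
    rw [hW]
    simpa [π, dif_pos htB] using this
  have hcyc := hJ W hY hJ0
  have hcov : ∀ t ∈ mems B, W t ≠ 0 →
      (t : G → ℂ) ((σ ^ (2 * r) : K) : G) = ω * (t : G → ℂ) 1 := fun t ht hne => by
    refine (C.scalar_cov hz hωξ).1 ?_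
    by_contra hc
    exact hne (hJ0 t (hRJ (Finset.mem_filter.2 ⟨ht, hc, fun h => hne (hcyc t h)⟩)) ht)
  have hφ : ∀ g : G, regMap 2 B w g =
      ∑ t ∈ mems B, W t * (t : G → ℂ) g := fun g => by
    rw [Finset.sum_congr rfl fun t ht => by rw [hZ t ht, Finset.sum_mul], Finset.sum_comm,
      regMap_apply, ← Finset.sum_coe_sort (mems B)]
    refine Finset.sum_congr rfl fun u _ => ?_
    rw [← sum_zEntry_mul hM C.block ((Set.Finite.mem_toFinset _).1 u.2) g, Finset.mul_sum]
    exact Finset.sum_congr rfl fun t _ => by rw [zEntry_comm, hWw]; ring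
  have hreg : regMap 2 B w = 0 := by
    funext g
    rw [Pi.zero_apply]
    by_cases hg : 2 ∣ orderOf g
    · rw [regMap_apply]
      simp [regCut, hg]
    · have h1 : regMap 2 B w (((σ ^ (2 * r) : K) : G) * g) = 0 := by
        rw [regMap_apply]
        exact Finset.sum_eq_zero fun χ _ => by
          rw [regCut, if_pos (C.two_dvd_translate hz hg), mul_zero]
      rw [hφ] at h1 ⊢
      have h2 : ∑ t ∈ mems B, W t * (t : G → ℂ) (((σ ^ (2 * r) : K) : G) * g) =
          ω * ∑ t ∈ mems B, W t * (t : G → ℂ) g := by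
        rw [Finset.mul_sum]
        refine Finset.sum_congr rfl fun t ht => ?_
        by_cases hne : W t = 0
        · rw [hne, zero_mul, zero_mul, mul_zero]
        have h3 := apply_central_mul t (fun x => (hz x).symm.eq) g
        rw [hcov t ht hne] at h3
        refine mul_right_cancel₀ (Char.IsIrr.apply_one_ne_zero t.2) ?_
        linear_combination (W t) * h3
      rw [h2, mul_eq_zero] at h1
      refine h1.resolve_left ?_
      rcases hω with e | e <;> rw [e] <;> norm_num
  rw [← hw, zMap_eq_zero hreg]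

omit hz in
/-- In the exceptional configuration too few members are trivial at `z`. -/
theorem Ctx.card_quotBlock_le [(Subgroup.zpowers ((σ ^ (2 * r) : K) : G)).Normal]
    (hz : ∀ g : G, Commute ((σ ^ (2 * r) : K) : G) g) (hr : r = 4)
    (hcov : (cov (mems B) C.X r).card = 5) (hrem : rem (mems B) C.X C.Y r = ∅) :
    Nat.card (DefectBound.quotBlock (Subgroup.zpowers ((σ ^ (2 * r) : K) : G)) B) ≤ 5 := by
  set Z := Subgroup.zpowers ((σ ^ (2 * r) : K) : G) with hZ
  obtain ⟨ω, hω, hωξ⟩ := C.sign hz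
  set T := if ω = 1 then cov (mems B) C.X r else cyc (mems B) C.Y r with hT
  have hTc : T.card ≤ 5 := by
    rw [hT]
    split_ifs
    · rw [hcov]
    · rw [C.data.card_cyc (by omega)]; omega
  have hmem : ∀ ξ : IrrCharacter (G ⧸ Z), ξ ∈ DefectBound.quotBlock Z B → inflate Z ξ ∈ T := by
    intro ξ hξ
    have h1 := inflate_apply_of_mem Z ξ (Subgroup.mem_zpowers ((σ ^ (2 * r) : K) : G))
    have hS : inflate Z ξ ∈ mems B := (Set.Finite.mem_toFinset _).2 hξ
    have h0 := Char.IsIrr.apply_one_ne_zero (inflate Z ξ).2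
    by_cases hc : inflate Z ξ ∈ cov (mems B) C.X r
    · have h2 := (C.scalar_cov hz hωξ).1 hc
      rw [h1] at h2
      rw [hT, if_pos ((mul_eq_right₀ h0).1 h2.symm)]
      exact hc
    · have hy : inflate Z ξ ∈ cyc (mems B) C.Y r := by
        by_contra hy
        have hin : inflate Z ξ ∈ rem (mems B) C.X C.Y r := Finset.mem_filter.2 ⟨hS, hc, hy⟩
        rw [hrem] at hin
        exact Finset.notMem_empty _ hin
      have h2 := (C.scalar_cov hz hωξ).2 hy
      rw [h1] at h2
      have h3 := (mul_eq_right₀ h0).1 h2.symm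
      rw [hT, if_neg fun e => by rw [e] at h3; norm_num at h3]
      exact hy
  refine le_trans ?_ hTc
  rw [← Fintype.card_coe, ← Nat.card_eq_fintype_card]
  exact Nat.card_le_card_of_injective (fun ξ => (⟨_, hmem ξ.1 ξ.2⟩ : T))
    fun a c h => Subtype.ext (inflate_injective Z (congrArg Subtype.val h :))

omit C hz [Fintype (IrrCharacter D)] in
/-- The dihedral block of the quotient has seven members. -/
theorem card_of_dihedral_sixteen (hM : IsPModular 2 M) (hB : IsPBlock M B) {P : Subgroup G}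
    (hP : IsDefectGroup 2 M B P) (e : P ≃* DihedralGroup (2 * 4)) : Nat.card B = 7 := by
  have h := (Cfsg.Agent.S4528.result M hM B hB P hP 4 (by norm_num) ⟨e⟩).1
  norm_num at h
  exact h

omit C hz [Fintype (IrrCharacter D)] in
/-- With the involution in the centre, `k - l` is at least `2 r + 2`. -/
theorem blockRank_add_le_card_of_central (hM : IsPModular 2 M) (hB : IsPBlock M B) {P : Subgroup G}
    (hP : IsDefectGroup 2 M B P) {σ τ : G} {r : ℕ} {l : Subgroup.zpowers σ →* ℂˣ}
    (h : Quat P σ τ r l) (eP : P ≃* QuaternionGroup (2 * r))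
    (hz : ∀ g : G, Commute (σ ^ (2 * r)) g) :
    blockRank 2 B + 2 * r + 2 ≤ Nat.card B := by
  obtain ⟨K, b, D, σ', τ', l', e, F, ξ₀, Φ, C, hσ⟩ := exists_ctx hM hB hP h
  have := Fintype.ofFinite (IrrCharacter D)
  have hz' : ∀ g : G, Commute ((σ' ^ (2 * r) : K) : G) g := by
    simpa [SubgroupClass.coe_pow, hσ] using hz
  have hk : Nat.card B = (mems B).card := by
    rw [Nat.card_coe_set_eq, Set.ncard_eq_toFinset_card B (Set.toFinite B)]
  have hd := C.disjoint_cov_cyc hz'
  have hS := (Data.card_eq (S := mems B) (x := C.X) (y := C.Y) (r := r)).2 hd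
  rcases C.config with ⟨-, hcov, hrem, -⟩ | ⟨hr, -, hcov, hrem⟩ | ⟨-, hnd, -⟩
  · have hl := C.blockRank_le hz'
    have hr1 := h.one_le
    by_cases h1 : r = 1
    · rw [cyc_eq_empty (by omega), Finset.card_empty, hcov] at hS
      rw [if_pos h1] at hl
      omega
    · rw [C.data.card_cyc (by omega), hcov] at hS
      rw [if_neg h1] at hl
      omega
  · exfalso
    set Z := Subgroup.zpowers ((σ' ^ (2 * r) : K) : G) with hZ
    have hZc : Z ≤ Subgroup.center G :=
      Subgroup.zpowers_le.2 (Subgroup.mem_center_iff.2 fun g => (hz' g).symm.eq)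
    have hZn : Z.Normal := ⟨fun x hx g => by
      rwa [Subgroup.mem_center_iff.1 (hZc hx) g, mul_inv_cancel_right]⟩
    have hZ1 : Nat.card Z = 2 ^ 1 := by
      rw [Nat.card_zpowers, Subgroup.orderOf_coe, C.quat.z_ord, pow_one]
    have h5 := C.card_quotBlock_le hz' hr hcov hrem
    have hZσ : Z = Subgroup.zpowers (σ ^ (2 * r)) := by rw [hZ, SubgroupClass.coe_pow, hσ]
    have := Fintype.ofFinite (G ⧸ Z)
    have hq := DefectBound.isPBlock_quotBlock Z hM hB hZc hZ1
    obtain ⟨Bq, χ, D', hBq, hχ, hχB, hD', hle⟩ :=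
      exists_quotient_block Z hM (IsPGroup.of_card hZ1) hB hP
    have hBqe : Bq = DefectBound.quotBlock Z B := by
      rw [IsPBlock.eq_blockOf hBq hχ,
        IsPBlock.eq_blockOf hq (show χ ∈ DefectBound.quotBlock Z B from hχB)]
    obtain ⟨x, hx⟩ := hle.exists_map_eq (subConj_defectGroup_quotient Z hM hBq hB hχ hχB hD' hP)
    have hsig : Nonempty (P.map (QuotientGroup.mk' Z) ≃* DihedralGroup (2 * r)) := by
      clear hq hBqe hle hx hχB hD' h5 hcov hrem χ D' hBq hχ Bq hZc hZ1
      revert hZn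
      rw [hZσ]
      intro hZn
      exact nonempty_map_equiv h eP
    obtain ⟨ed⟩ := hsig
    have h7 := (card_of_dihedral_sixteen hM hBq hD' (((Subgroup.equivMapOfInjective _ _
      (MulAut.conj x).injective).trans (MulEquiv.subgroupCongr hx)).symm.trans
        (ed.trans (by rw [hr]))))
    rw [hBqe] at h7
    change Nat.card (DefectBound.quotBlock Z B) ≤ 5 at h5
    omega
  · exact absurd hd hnd

end CfsgLib.Blocks.QuaternionDefect
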