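import Cfsg.Agent.Lib.Blocks.DihedralDefect.Combin

/-!
# The vectors of a block with quaternion defect group
-/

set_option autoImplicit false

namespace CfsgLib.Blocks.QuaternionDefect

open Finset CfsgLib.Blocks.DihedralDefect
open scoped Classical

set_option linter.unusedSimpArgs false

variable {ι : Type*}

/-- The vectors of even index. -/
structure XTab (S : Finset ι) (x : ℕ → ι → ℤ) (r : ℕ) (d : ι → ℤ) : Prop where
  one_le : 1 ≤ r
  pow_two' : ∃ e, r = 2 ^ e
  gram : ∀ i ∈ Finset.Icc 1 r, ∀ j ∈ Finset.Icc 1 r, ∑ t ∈ S, x i t * x j t =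
    2 + (if i = j then 1 else 0) + (if i = r ∧ j = r then 1 else 0)
  deg : ∀ j ∈ Finset.Icc 1 r, ∑ t ∈ S, x j t * d t = 0
  pos : ∀ t ∈ S, 0 < d t

section XTab

variable {S : Finset ι} {x : ℕ → ι → ℤ} {r : ℕ} {d : ι → ℤ} (T : XTab S x r d)
include T

theorem XTab.q_mem : r ∈ Icc 1 r := mem_Icc.2 ⟨T.one_le, le_rfl⟩

theorem XTab.sum_sq_q : ∑ t ∈ S, x r t ^ 2 = 4 := by
  have h := T.gram r T.q_mem r T.q_mem
  simp only [if_pos, and_self] at h
  exact (sum_congr rfl fun t _ => pow_two (x r t)).trans h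

theorem XTab.abs_q {t : ι} (ht : t ∈ S) : x r t = 0 ∨ x r t = 1 ∨ x r t = -1 := by
  by_contra hcon
  simp only [not_or] at hcon
  have h2 : 4 ≤ x r t ^ 2 := by
    rcases le_or_gt (x r t) (-2) with h | h
    · nlinarith
    · have : 2 ≤ x r t := by omega
      nlinarith
  have h0 : ∀ s ∈ S, s ≠ t → x r s = 0 := fun s hs hst => by
    have h3 : x r t ^ 2 + x r s ^ 2 ≤ 4 := by
      rw [← T.sum_sq_q, ← sum_pair (f := fun s => x r s ^ 2) hst.symm]
      exact sum_le_sum_of_subset_of_nonneg (by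
        intro u hu
        simp only [mem_insert, mem_singleton] at hu
        rcases hu with rfl | rfl <;> assumption) fun u _ _ => sq_nonneg _
    nlinarith [sq_nonneg (x r s)]
  have h := T.deg r T.q_mem
  rw [sum_eq_single t (fun s hs hst => by rw [h0 s hs hst, zero_mul]) (fun hn => absurd ht hn),
    mul_eq_zero] at h
  rcases h with h | h
  · exact hcon.1 h
  · exact (T.pos t ht).ne' h

theorem XTab.card_longSupp : (longSupp S x r).card = 4 := by
  have h : ∑ t ∈ S, x r t ^ 2 = ((longSupp S x r).card : ℤ) := by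
    rw [longSupp, card_filter, Nat.cast_sum]
    refine sum_congr rfl fun t ht => ?_
    rcases T.abs_q ht with e | e | e <;> simp [e]
  rw [T.sum_sq_q] at h
  exact_mod_cast h.symm

/-- A short vector. -/
theorem XTab.short {j : ℕ} (h1 : 1 ≤ j) (hj : j < r) :
    ∃ (P : Finset ι) (e : ι) (s : ℤ), P ⊆ longSupp S x r ∧ P.card = 2 ∧ e ∈ S ∧
      e ∉ longSupp S x r ∧ (s = 1 ∨ s = -1) ∧
      ∀ t ∈ S, x j t = (if t ∈ P then x r t else 0) + (if t = e then s else 0) := by
  have hjm : j ∈ Icc 1 r := mem_Icc.2 ⟨h1, hj.le⟩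
  have hn := T.gram j hjm j hjm
  have hu := T.gram j hjm r T.q_mem
  simp only [if_true, hj.ne, false_and, if_false] at hn hu
  have hsmall : ∀ t ∈ S, x j t = 0 ∨ x j t = 1 ∨ x j t = -1 := by
    intro t ht
    have h3 : x j t * x j t ≤ 3 := by
      calc x j t * x j t ≤ ∑ s ∈ S, x j s * x j s :=
            single_le_sum (fun s _ => mul_self_nonneg (x j s)) ht
        _ ≤ 3 := by omega
    have h4 : x j t ≤ 1 := by nlinarith
    have h5 : -1 ≤ x j t := by nlinarith
    omega
  set T0 := S.filter fun t => x j t ≠ 0 with hT0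
  have hT3 : T0.card = 3 := by
    have h : ∑ t ∈ S, x j t * x j t = (T0.card : ℤ) := by
      rw [hT0, card_filter, Nat.cast_sum]
      refine sum_congr rfl fun t ht => ?_
      rcases hsmall t ht with e | e | e <;> simp [e]
    have : (T0.card : ℤ) = 3 := by rw [← h]; omega
    exact_mod_cast this
  set P := T0.filter fun t => x r t ≠ 0 with hP
  have hsum : ∑ t ∈ P, x j t * x r t = 2 := by
    rw [hP, hT0, filter_filter,
      sum_filter_of_ne fun t _ hne => ⟨left_ne_zero_of_mul hne, right_ne_zero_of_mul hne⟩]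
    omega
  have hPS : ∀ t ∈ P, t ∈ S := fun t ht => (mem_filter.1 (mem_filter.1 ht).1).1
  have hpm : ∀ t ∈ P, x j t * x r t = 1 ∨ x j t * x r t = -1 := by
    intro t ht
    have hne1 := (mem_filter.1 (mem_filter.1 ht).1).2
    have hne2 := (mem_filter.1 ht).2
    rcases hsmall t (hPS t ht) with a | a | a <;> rcases T.abs_q (hPS t ht) with b | b | b <;>
      simp_all
  have hPc : P.card = 2 := by
    have hle : (2 : ℤ) ≤ (P.card : ℤ) := by
      rw [← hsum, ← mul_one (P.card : ℤ), ← nsmul_eq_mul, ← sum_const]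
      exact sum_le_sum fun t ht => by rcases hpm t ht with e | e <;> omega
    have hge : P.card ≤ 3 := hT3 ▸ card_filter_le _ _
    have hpar : (2 : ℤ) ∣ (P.card : ℤ) - ∑ t ∈ P, x j t * x r t := by
      rw [← mul_one (P.card : ℤ), ← nsmul_eq_mul, ← sum_const, ← sum_sub_distrib]
      exact dvd_sum fun t ht => by rcases hpm t ht with e | e <;> rw [e] <;> norm_num
    rw [hsum] at hpar
    omega
  have hagree : ∀ t ∈ P, x j t = x r t := by
    intro t ht
    have h0 : ∑ s ∈ P, (1 - x j s * x r s) = 0 := by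
      rw [sum_sub_distrib, sum_const, hsum, hPc]
      norm_num
    have h2 := (sum_eq_zero_iff_of_nonneg fun s hs => by
      rcases hpm s hs with e | e <;> omega).1 h0 t ht
    rcases hsmall t (hPS t ht) with a | a | a <;> rcases T.abs_q (hPS t ht) with b | b | b <;>
      rw [a, b] at h2 ⊢ <;> norm_num at h2
  obtain ⟨e, he⟩ := card_eq_one.1 (show (T0 \ P).card = 1 by
    rw [card_sdiff_of_subset (show P ⊆ T0 from filter_subset _ _)]; omega)
  obtain ⟨heT, heP⟩ := mem_sdiff.1 (he.ge (mem_singleton_self e))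
  have heS := (mem_filter.1 heT).1
  have heA : e ∉ longSupp S x r := fun h => heP (mem_filter.2 ⟨heT, (mem_filter.1 h).2⟩)
  refine ⟨P, e, x j e, fun t ht => mem_filter.2 ⟨hPS t ht, (mem_filter.1 ht).2⟩, hPc, heS, heA, ?_,
    fun t ht => ?_⟩
  · rcases hsmall e heS with a | a | a
    · exact absurd a (mem_filter.1 heT).2
    · exact Or.inl a
    · exact Or.inr a
  · by_cases htP : t ∈ P
    · rw [if_pos htP, if_neg (fun h => heP (by rw [← h]; exact htP)), hagree t htP, add_zero]
    · rw [if_neg htP, zero_add]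
      split_ifs with h
      · rw [h]
      · by_contra h0
        have h5 := he.le (mem_sdiff.2 ⟨mem_filter.2 ⟨ht, h0⟩, htP⟩)
        exact h (mem_singleton.1 h5)

end XTab

/-- The shape of the vectors of even index: pairs `P j` in the long support and one further
member `e j`. -/
structure XShape (S : Finset ι) (x : ℕ → ι → ℤ) (r : ℕ) (P : ℕ → Finset ι) (e : ℕ → ι)
    (s : ℕ → ℤ) : Prop where
  sub : ∀ j ∈ Finset.Ico 1 r, P j ⊆ longSupp S x r
  card : ∀ j ∈ Finset.Ico 1 r, (P j).card = 2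
  mem : ∀ j ∈ Finset.Ico 1 r, e j ∈ S
  notMem : ∀ j ∈ Finset.Ico 1 r, e j ∉ longSupp S x r
  sign : ∀ j ∈ Finset.Ico 1 r, s j = 1 ∨ s j = -1
  val : ∀ j ∈ Finset.Ico 1 r, ∀ t ∈ S,
    x j t = (if t ∈ P j then x r t else 0) + (if t = e j then s j else 0)
  cases : (Set.InjOn e (Finset.Ico 1 r : Finset ℕ) ∧
      ∀ i ∈ Finset.Ico 1 r, ∀ j ∈ Finset.Ico 1 r, P i = P j) ∨
    (r = 4 ∧ ∀ i ∈ Finset.Ico 1 r, ∀ j ∈ Finset.Ico 1 r, i ≠ j →
      e i = e j ∧ (P i ∩ P j).card = 1)

/-- Among four points there are no four pairs meeting pairwise in one point. -/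
theorem card_le_three {κ : Type*} {J : Finset κ} {A : Finset ι} {P : κ → Finset ι} (hA : A.card = 4)
    (hP : ∀ j ∈ J, P j ⊆ A ∧ (P j).card = 2)
    (h : ∀ i ∈ J, ∀ j ∈ J, i ≠ j → (P i ∩ P j).card = 1) : J.card ≤ 3 := by
  obtain ⟨a, ha⟩ := card_pos.1 (by omega : 0 < A.card)
  have hc : ∀ j ∈ J, ∃ b ∈ A.erase a,
      (if a ∈ P j then P j else A \ P j) = ({a, b} : Finset ι) := by
    intro j hj
    obtain ⟨hs, hc⟩ := hP j hj
    set Q := if a ∈ P j then P j else A \ P j with hQ
    have hQs : Q ⊆ A := by rw [hQ]; split_ifs; exacts [hs, sdiff_subset]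
    have haQ : a ∈ Q := by
      rw [hQ]; split_ifs with h'
      exacts [h', mem_sdiff.2 ⟨ha, h'⟩]
    have hQc : Q.card = 2 := by
      rw [hQ]; split_ifs
      · exact hc
      · rw [card_sdiff_of_subset hs]; omega
    obtain ⟨b, hb⟩ := card_eq_one.1 (show (Q.erase a).card = 1 by rw [card_erase_of_mem haQ]; omega)
    have hbQ : b ∈ Q.erase a := hb.ge (mem_singleton_self b)
    exact ⟨b, mem_erase.2 ⟨(mem_erase.1 hbQ).1, hQs (mem_erase.1 hbQ).2⟩,
      by rw [← insert_erase haQ, hb]⟩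
  have : Nonempty ι := ⟨a⟩
  choose! f hf hfQ using hc
  refine le_trans (card_le_card_of_injOn f hf fun i hi j hj he => ?_)
    (by rw [card_erase_of_mem ha, hA])
  by_contra hne
  have e := (hfQ i hi).trans ((congrArg (fun b => ({a, b} : Finset ι)) he).trans (hfQ j hj).symm)
  have h1 := h i hi j hj hne
  have comp : ∀ X Y : Finset ι, Y ⊆ A → X = A \ Y → (X ∩ Y).card = 0 := fun X Y _ hX => by
    rw [card_eq_zero, hX]
    ext t
    simp only [mem_inter, mem_sdiff, notMem_empty, iff_false]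
    tauto
  split_ifs at e with hi' hj' hj'
  · rw [e, inter_self, (hP j hj).2] at h1; omega
  · rw [comp _ _ (hP j hj).1 e] at h1; omega
  · rw [inter_comm, comp _ _ (hP i hi).1 e.symm] at h1; omega
  · have : P i = P j := by
      rw [← Finset.sdiff_sdiff_eq_self (hP i hi).1, e, Finset.sdiff_sdiff_eq_self (hP j hj).1]
    rw [this, inter_self, (hP j hj).2] at h1; omega

theorem XTab.exists_shape {S : Finset ι} {x : ℕ → ι → ℤ} {r : ℕ} {d : ι → ℤ}
    (T : XTab S x r d) : ∃ P e s, XShape S x r P e s := by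
  set A := longSupp S x r with hA
  have hAne : A.Nonempty := card_pos.1 (by rw [hA, T.card_longSupp]; norm_num)
  have : Nonempty ι := let ⟨o, _⟩ := hAne; ⟨o⟩
  choose! P e s hPA hPc heS heA hs hval using fun j (h : 1 ≤ j ∧ j < r) => T.short h.1 h.2
  have hAu : ∀ t ∈ A, x r t * x r t = 1 := fun t ht => by
    rcases T.abs_q (mem_filter.1 ht).1 with a | a | a
    · exact absurd a (mem_filter.1 ht).2
    · rw [a]; norm_num
    · rw [a]; norm_num
  have hpair : ∀ i j, (1 ≤ i ∧ i < r) → (1 ≤ j ∧ j < r) → i ≠ j →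
      ((P i ∩ P j).card : ℤ) + (if e i = e j then s i * s j else 0) = 2 := by
    intro i j hi hj hne
    have h := T.gram i (mem_Icc.2 ⟨hi.1, hi.2.le⟩) j (mem_Icc.2 ⟨hj.1, hj.2.le⟩)
    rw [if_neg hne, if_neg fun h : i = r ∧ j = r => absurd h.1 hi.2.ne, add_zero, add_zero,
      sum_congr rfl (g := fun t => (if t ∈ P i ∩ P j then (1 : ℤ) else 0) +
        (if t = e i then (if e i = e j then s i * s j else 0) else 0)) fun t ht => ?_,
      sum_add_distrib, sum_ite_mem, sum_ite_eq', if_pos (heS i hi), sum_const,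
      inter_eq_right.2 (inter_subset_left.trans ((hPA i hi).trans (filter_subset _ _)))] at h
    · simpa using h
    rw [hval i hi t ht, hval j hj t ht]
    by_cases hti : t ∈ P i <;> by_cases htj : t ∈ P j
    · have h1 : t ≠ e i := fun h => heA i hi (h ▸ hPA i hi hti)
      have h2 : t ≠ e j := fun h => heA j hj (h ▸ hPA j hj htj)
      simp [hti, htj, h1, h2, hAu t (hPA i hi hti)]
    · have h1 : t ≠ e i := fun h => heA i hi (h ▸ hPA i hi hti)
      have h2 : t ≠ e j := fun h => heA j hj (h ▸ hPA i hi hti)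
      simp [hti, htj, h1, h2]
    · have h1 : t ≠ e i := fun h => heA i hi (h ▸ hPA j hj htj)
      have h2 : t ≠ e j := fun h => heA j hj (h ▸ hPA j hj htj)
      simp [hti, htj, h1, h2]
    · simp only [mem_inter, hti, htj, and_self, if_false, zero_add]
      by_cases h1 : t = e i <;> by_cases h2 : e i = e j
      · simp [h1, h2]
      · simp [h1, h2]
      · have h3 : t ≠ e j := h2 ▸ h1
        simp [h1, h3]
      · simp [h1]
  refine ⟨P, e, s, fun j hj => hPA j (mem_Ico.1 hj), fun j hj => hPc j (mem_Ico.1 hj),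
    fun j hj => heS j (mem_Ico.1 hj), fun j hj => heA j (mem_Ico.1 hj),
    fun j hj => hs j (mem_Ico.1 hj), fun j hj => hval j (mem_Ico.1 hj), ?_⟩
  by_cases hinj : Set.InjOn e (Ico 1 r : Finset ℕ)
  · refine Or.inl ⟨hinj, fun i hi j hj => ?_⟩
    by_cases hij : i = j
    · rw [hij]
    have h := hpair i j (mem_Ico.1 hi) (mem_Ico.1 hj) hij
    rw [if_neg fun he => hij (hinj hi hj he), add_zero] at h
    exact inter_eq_of_card_two (hPc i (mem_Ico.1 hi)) (hPc j (mem_Ico.1 hj)) (by exact_mod_cast h)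
  right
  obtain ⟨i, hi, j, hj, heij, hne⟩ : ∃ i, (1 ≤ i ∧ i < r) ∧ ∃ j, (1 ≤ j ∧ j < r) ∧ e i = e j ∧
      i ≠ j := by
    simp only [Set.InjOn, coe_Ico, Set.mem_Ico, not_forall] at hinj
    obtain ⟨i, hi, j, hj, h, hne⟩ := hinj
    exact ⟨i, hi, j, hj, h, hne⟩
  have hmeet : ∀ a b, (1 ≤ a ∧ a < r) → (1 ≤ b ∧ b < r) → a ≠ b → e a = e b →
      (P a ∩ P b).card = 1 := by
    intro a b ha hb hab he'
    have h := hpair a b ha hb hab
    rw [if_pos he'] at h
    have hle : (P a ∩ P b).card ≤ 2 := hPc a ha ▸ card_le_card inter_subset_left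
    rcases hs a ha with u | u <;> rcases hs b hb with v | v <;> rw [u, v] at h <;> omega
  have hall : ∀ k, (1 ≤ k ∧ k < r) → e k = e i := by
    intro k hk
    by_contra hki
    have heq : ∀ m, (1 ≤ m ∧ m < r) → e m = e i → P k = P m := fun m hm hm' => by
      have h := hpair k m hk hm fun h => hki (h ▸ hm')
      rw [if_neg fun h => hki (h.trans hm'), add_zero] at h
      exact inter_eq_of_card_two (hPc k hk) (hPc m hm) (by exact_mod_cast h)
    have h1 := hmeet i j hi hj hne heij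
    rw [← heq i hi rfl, ← heq j hj heij.symm, inter_self, hPc k hk] at h1
    omega
  have hall1 : ∀ a ∈ Ico 1 r, ∀ b ∈ Ico 1 r, a ≠ b → e a = e b ∧ (P a ∩ P b).card = 1 :=
    fun a ha b hb hab =>
      have he' := (hall a (mem_Ico.1 ha)).trans (hall b (mem_Ico.1 hb)).symm
      ⟨he', hmeet a b (mem_Ico.1 ha) (mem_Ico.1 hb) hab he'⟩
  refine ⟨?_, hall1⟩
  have h3 := card_le_three T.card_longSupp
    (fun j hj => ⟨hPA j (mem_Ico.1 hj), hPc j (mem_Ico.1 hj)⟩)
    (fun a ha b hb hab => (hall1 a ha b hb hab).2)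
  rw [Nat.card_Ico] at h3
  obtain ⟨n, hn⟩ := T.pow_two'
  rcases n with _ | _ | _ | n
  · simp at hn; omega
  · simp at hn; omega
  · simpa using hn
  · rw [hn, pow_succ, pow_succ, pow_succ] at h3
    have := Nat.two_pow_pos n
    omega

end CfsgLib.Blocks.QuaternionDefect
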