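import Cfsg.Agent.Lib.Blocks.DihedralDefect.Group
import Cfsg.Agent.Lib.Pairs.Restrict
import Mathlib.GroupTheory.SpecificGroups.Quaternion

/-!
# Generalized quaternion 2-subgroups and their rotation functions

The rotation functions are those of the dihedral case: `dlt l j` takes the value
`2 - l x ^ j - l x ^ (-j)` on a rotation `x` and vanishes elsewhere.
-/

set_option autoImplicit false

namespace CfsgLib.Blocks.QuaternionDefect

open Cfsg CfsgLib.Blocks.DihedralDefect
open scoped Classical ComplexConjugate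

variable {K : Type*} [Group K]

/-- A quaternion subgroup of order `8 * r` with generators `σ`, `τ` and a faithful character
of `⟨σ⟩`. -/
structure Quat (D : Subgroup K) (σ τ : K) (r : ℕ) (l : Subgroup.zpowers σ →* ℂˣ) : Prop where
  one_le : 1 ≤ r
  pow_two' : ∃ e, r = 2 ^ e
  card : Nat.card D = 8 * r
  ord : orderOf σ = 2 * (2 * r)
  memσ : σ ∈ D
  memτ : τ ∈ D
  τ_sq : τ * τ = σ ^ (2 * r)
  rel : τ * σ * τ⁻¹ = σ⁻¹
  notMem : τ ∉ Subgroup.zpowers σ
  elt : ∀ g ∈ D, ∃ i : ℤ, g = σ ^ i ∨ g = σ ^ i * τ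
  prim : IsPrimitiveRoot ((l ⟨σ, Subgroup.mem_zpowers σ⟩ : ℂˣ) : ℂ) (2 * (2 * r))

/-- A quaternion subgroup in coordinates. -/
theorem exists_quat (D : Subgroup K) {r : ℕ} (hr : 1 ≤ r) (he : ∃ e, r = 2 ^ e)
    (eD : D ≃* QuaternionGroup (2 * r)) :
    ∃ (σ τ : K) (l : Subgroup.zpowers σ →* ℂˣ), Quat D σ τ r l := by
  haveI : NeZero (2 * r) := ⟨by omega⟩
  haveI : NeZero (2 * (2 * r)) := ⟨by omega⟩
  set σP : D := eD.symm (QuaternionGroup.a 1) with hσP
  set τP : D := eD.symm (QuaternionGroup.xa 0) with hτP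
  have heσ : eD σP = QuaternionGroup.a 1 := eD.apply_symm_apply _
  have heτ : eD τP = QuaternionGroup.xa 0 := eD.apply_symm_apply _
  have hpow : ∀ i : ℕ, eD (σP ^ i) = QuaternionGroup.a (i : ZMod (2 * (2 * r))) := fun i => by
    rw [map_pow, heσ, QuaternionGroup.a_one_pow]
  have hord : orderOf (σP : K) = 2 * (2 * r) := by
    rw [Subgroup.orderOf_coe, hσP, MulEquiv.orderOf_eq eD.symm, QuaternionGroup.orderOf_a_one]
  obtain ⟨g, hg⟩ : ∃ g : ℂ, IsPrimitiveRoot g (2 * (2 * r)) :=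
    ⟨_, Complex.isPrimitiveRoot_exp _ (by omega)⟩
  set ζu : ℂˣ := (hg.isUnit (by omega)).unit with hζu
  have hζo : orderOf ζu = 2 * (2 * r) := by
    rw [← orderOf_units, hζu, IsUnit.unit_spec]
    exact hg.eq_orderOf.symm
  have hgen : ∀ x : Subgroup.zpowers (σP : K),
      x ∈ Subgroup.zpowers (⟨(σP : K), Subgroup.mem_zpowers _⟩ : Subgroup.zpowers (σP : K)) :=
    fun x => by
      obtain ⟨i, hi⟩ := Subgroup.mem_zpowers_iff.1 x.2
      exact Subgroup.mem_zpowers_iff.2 ⟨i, Subtype.ext (by simpa using hi)⟩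
  let l : Subgroup.zpowers (σP : K) →* ℂˣ := monoidHomOfForallMemZpowers hgen
    (by rw [hζo, Subgroup.orderOf_mk, hord] : orderOf ζu ∣ orderOf
      (⟨(σP : K), Subgroup.mem_zpowers _⟩ : Subgroup.zpowers (σP : K)))
  refine ⟨(σP : K), (τP : K), l, ⟨hr, he, ?_, hord, σP.2, τP.2, ?_, ?_, ?_, ?_, ?_⟩⟩
  · rw [Nat.card_congr eD.toEquiv, Nat.card_eq_fintype_card, QuaternionGroup.card]
    ring
  · refine congrArg Subtype.val (a₁ := τP * τP) (a₂ := σP ^ (2 * r)) (eD.injective ?_)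
    rw [map_mul, heτ, hpow, QuaternionGroup.xa_mul_xa]
    simp
  · refine congrArg Subtype.val (a₁ := τP * σP * τP⁻¹) (a₂ := σP⁻¹) ?_
    rw [mul_inv_eq_iff_eq_mul, eq_inv_mul_iff_mul_eq]
    refine eD.injective ?_
    rw [map_mul, map_mul, heσ, heτ, QuaternionGroup.xa_mul_a, QuaternionGroup.a_mul_xa]
    simp
  · intro hmem
    obtain ⟨i, hi⟩ := Subgroup.mem_zpowers_iff.1 hmem
    have h1 : σP ^ i = τP := Subtype.ext (by rw [SubgroupClass.coe_zpow, hi])
    have h2 : Commute σP τP := h1 ▸ (Commute.refl σP).zpow_right i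
    have h3 := congrArg eD h2.eq
    rw [map_mul, map_mul, heσ, heτ, QuaternionGroup.a_mul_xa, QuaternionGroup.xa_mul_a,
      QuaternionGroup.xa.injEq, zero_sub, zero_add, neg_eq_iff_add_eq_zero] at h3
    have h4 : ((2 : ℕ) : ZMod (2 * (2 * r))) = 0 := by
      push_cast
      linear_combination h3
    rw [ZMod.natCast_eq_zero_iff] at h4
    have := Nat.le_of_dvd (by norm_num) h4
    omega
  · intro x hx
    rcases h : eD ⟨x, hx⟩ with i | i
    · obtain ⟨k, rfl⟩ : ∃ k : ℕ, (k : ZMod (2 * (2 * r))) = i := ⟨i.val, ZMod.natCast_zmod_val i⟩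
      refine ⟨k, Or.inl ?_⟩
      have : (⟨x, hx⟩ : D) = σP ^ k := eD.injective (by rw [h, hpow])
      rw [zpow_natCast]
      exact congrArg Subtype.val this
    · obtain ⟨k, hk⟩ : ∃ k : ℕ, (k : ZMod (2 * (2 * r))) = -i := ⟨(-i).val, ZMod.natCast_zmod_val _⟩
      refine ⟨k, Or.inr ?_⟩
      have : (⟨x, hx⟩ : D) = σP ^ k * τP := eD.injective (by
        rw [map_mul, h, hpow, hk, heτ, QuaternionGroup.a_mul_xa]
        simp)
      rw [zpow_natCast]
      exact congrArg Subtype.val this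
  · rw [show l ⟨(σP : K), Subgroup.mem_zpowers _⟩ = ζu from
      monoidHomOfForallMemZpowers_apply_gen hgen _, hζu, IsUnit.unit_spec]
    exact hg

variable {D : Subgroup K} {σ τ : K} {r : ℕ} {l : Subgroup.zpowers σ →* ℂˣ} (h : Quat D σ τ r l)
include h

/-- The same data inside a subgroup containing `D`. -/
theorem Quat.subgroupOf {H : Subgroup K} (hDH : D ≤ H) :
    ∃ l' : Subgroup.zpowers (⟨σ, hDH h.memσ⟩ : H) →* ℂˣ,
      Quat (D.subgroupOf H) ⟨σ, hDH h.memσ⟩ ⟨τ, hDH h.memτ⟩ r l' := by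
  set s : H := ⟨σ, hDH h.memσ⟩ with hs
  have hval : ∀ i : ℤ, ((s ^ i : H) : K) = σ ^ i := fun i => by rw [SubgroupClass.coe_zpow]
  let m : Subgroup.zpowers s →* Subgroup.zpowers σ :=
    (H.subtype.comp (Subgroup.zpowers s).subtype).codRestrict (Subgroup.zpowers σ) fun x => by
      obtain ⟨i, hi⟩ := Subgroup.mem_zpowers_iff.1 x.2
      exact ⟨i, by simp [← hi, hs]⟩
  refine ⟨l.comp m, ⟨h.one_le, h.pow_two', ?_, ?_, h.memσ, h.memτ, Subtype.ext ?_,
    Subtype.ext h.rel, fun hm => ?_, fun g hg => ?_, ?_⟩⟩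
  · rw [Nat.card_congr (Subgroup.subgroupOfEquivOfLe hDH).toEquiv, h.card]
  · rw [hs, Subgroup.orderOf_mk, h.ord]
  · simp [hs, h.τ_sq]
  · obtain ⟨i, hi⟩ := Subgroup.mem_zpowers_iff.1 hm
    exact h.notMem ⟨i, by
      show σ ^ i = τ
      rw [← hval, hi]⟩
  · obtain ⟨i, hi | hi⟩ := h.elt (g : K) hg
    · exact ⟨i, Or.inl (Subtype.ext (by rw [hval, hi]))⟩
    · exact ⟨i, Or.inr (Subtype.ext (by rw [Subgroup.coe_mul, hval, hi]))⟩
  · exact h.prim

theorem Quat.zpowers_le : Subgroup.zpowers σ ≤ D := Subgroup.zpowers_le.2 h.memσ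

theorem Quat.finite : Finite D :=
  Nat.finite_of_card_ne_zero (by rw [h.card]; have := h.one_le; omega)

theorem Quat.isPGroup : IsPGroup 2 D := by
  obtain ⟨e, he⟩ := h.pow_two'
  exact IsPGroup.of_card (n := e + 3) (by rw [h.card, he]; ring)

theorem Quat.a_ord : orderOf (σ ^ r) = 4 := by
  have := h.one_le
  rw [orderOf_pow_of_dvd (by omega) (by rw [h.ord]; exact ⟨4, by ring⟩), h.ord,
    show 2 * (2 * r) = 4 * r by ring, Nat.mul_div_cancel _ (by omega)]

theorem Quat.a_four : (σ ^ r) ^ 4 = 1 := by rw [← h.a_ord, pow_orderOf_eq_one]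

omit h in
theorem a_sq_eq : (σ ^ r) ^ 2 = σ ^ (2 * r) := by rw [← pow_mul, mul_comm]

theorem Quat.z_ord : orderOf (σ ^ (2 * r)) = 2 := by
  have := h.one_le
  rw [orderOf_pow_of_dvd (by omega) (by rw [h.ord]; exact dvd_mul_left _ 2), h.ord,
    Nat.mul_div_cancel _ (by omega)]

theorem Quat.z_sq : σ ^ (2 * r) * σ ^ (2 * r) = 1 := by
  have := pow_orderOf_eq_one (σ ^ (2 * r))
  rwa [h.z_ord, pow_two] at this

theorem Quat.z_ne : σ ^ (2 * r) ≠ 1 := fun e => by
  have := h.z_ord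
  rw [e, orderOf_one] at this
  omega

theorem Quat.conj_zpow (i : ℤ) : τ * σ ^ i * τ⁻¹ = σ ^ (-i) := by
  rw [← _root_.conj_zpow, h.rel, inv_zpow, zpow_neg]

theorem Quat.conj_a : τ * σ ^ r * τ⁻¹ = (σ ^ r)⁻¹ := by
  have := h.conj_zpow r
  rwa [zpow_natCast, zpow_neg, zpow_natCast] at this

/-- The elements outside `⟨σ⟩` square to the central involution. -/
theorem Quat.sq_eq_z {g : K} (hg : g ∈ D) (hgσ : g ∉ Subgroup.zpowers σ) :
    g * g = σ ^ (2 * r) := by
  obtain ⟨i, rfl | rfl⟩ := h.elt g hg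
  · exact absurd ⟨i, rfl⟩ hgσ
  · have e : τ * σ ^ i = σ ^ (-i) * τ := mul_inv_eq_iff_eq_mul.1 (h.conj_zpow i)
    calc σ ^ i * τ * (σ ^ i * τ) = σ ^ i * (τ * σ ^ i) * τ := by group
      _ = τ * τ := by rw [e]; group
      _ = _ := h.τ_sq

theorem Quat.z_commute {g : K} (hg : g ∈ D) : Commute (σ ^ (2 * r)) g := by
  have h1 : Commute (σ ^ (2 * r)) τ := by
    rw [← h.τ_sq]
    exact (Commute.refl τ).mul_left (Commute.refl τ)
  obtain ⟨i, rfl | rfl⟩ := h.elt g hg
  · exact ((Commute.refl σ).pow_left _).zpow_right i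
  · exact (((Commute.refl σ).pow_left _).zpow_right i).mul_right h1

/-- A square root of one among the rotations is `1` or the central involution. -/
theorem Quat.eq_one_or_z {x : K} (hx : x ∈ Subgroup.zpowers σ) (hx2 : x * x = 1) :
    x = 1 ∨ x = σ ^ (2 * r) := by
  obtain ⟨i, rfl⟩ := Subgroup.mem_zpowers_iff.1 hx
  rw [← zpow_add, ← orderOf_dvd_iff_zpow_eq_one, h.ord] at hx2
  push_cast at hx2
  obtain ⟨k, hk⟩ := hx2
  have hi : i = (2 * r : ℕ) * k := by push_cast; linarith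
  rcases Int.even_or_odd k with ⟨j, hj⟩ | ⟨j, hj⟩
  · left
    rw [← orderOf_dvd_iff_zpow_eq_one, h.ord]
    exact ⟨j, by rw [hi, hj]; push_cast; ring⟩
  · right
    rw [hi, hj, show ((2 * r : ℕ) : ℤ) * (2 * j + 1) =
        ((2 * (2 * r) : ℕ) : ℤ) * j + ((2 * r : ℕ) : ℤ) by push_cast; ring,
      zpow_add, zpow_mul, zpow_natCast, ← h.ord, pow_orderOf_eq_one, one_zpow, one_mul, zpow_natCast]

/-- The rotations of order 4. -/
theorem Quat.eq_a_or_inv {x : K} (hx : x ∈ Subgroup.zpowers σ) (hx2 : x * x = σ ^ (2 * r)) :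
    x = σ ^ r ∨ x = (σ ^ r)⁻¹ := by
  have hy : x * (σ ^ r)⁻¹ ∈ Subgroup.zpowers σ :=
    mul_mem hx (inv_mem (Subgroup.npow_mem_zpowers σ r))
  have hc : Commute x (σ ^ r)⁻¹ := by
    obtain ⟨i, rfl⟩ := Subgroup.mem_zpowers_iff.1 hx
    exact (((Commute.refl σ).pow_right r).inv_right).zpow_left i
  rcases h.eq_one_or_z hy (by
    rw [← pow_two, hc.mul_pow, inv_pow, a_sq_eq, pow_two, hx2, mul_inv_cancel]) with e | e
  · exact Or.inl (mul_inv_eq_one.1 e)
  · right
    rw [mul_inv_eq_iff_eq_mul.1 e, eq_inv_iff_mul_eq_one, mul_assoc, ← pow_two, a_sq_eq, h.z_sq]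

/-- A rotation other than `1` and the central involution has `σ ^ r` as a power. -/
theorem Quat.exists_pow_eq_a {x : K} (hx : x ∈ Subgroup.zpowers σ) (hx2 : x * x ≠ 1) :
    ∃ m : ℕ, x ^ m = σ ^ r := by
  obtain ⟨e, he⟩ := h.pow_two'
  have hd : orderOf x ∣ 2 ^ (e + 2) := by
    rw [show 2 ^ (e + 2) = 2 * (2 * r) by rw [he]; ring, ← h.ord]
    exact orderOf_dvd_of_mem_zpowers hx
  obtain ⟨k, -, hk⟩ := (Nat.dvd_prime_pow Nat.prime_two).1 hd
  rcases k with _ | _ | k
  · have hx1 : x = 1 := orderOf_eq_one_iff.1 (by simpa using hk)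
    exact absurd (by rw [hx1, one_mul] : x * x = 1) hx2
  · exact absurd (by rw [← pow_two, show 2 = orderOf x by rw [hk]; norm_num, pow_orderOf_eq_one] :
      x * x = 1) hx2
  have hy : x ^ 2 ^ k * x ^ 2 ^ k = σ ^ (2 * r) := by
    refine (h.eq_one_or_z (mul_mem (pow_mem hx _) (pow_mem hx _)) ?_).resolve_left fun e' => ?_
    · simp only [← pow_add]
      rw [show 2 ^ k + 2 ^ k + (2 ^ k + 2 ^ k) = orderOf x by rw [hk]; ring, pow_orderOf_eq_one]
    · rw [← pow_add] at e'
      have h3 := Nat.le_of_dvd (by have := Nat.two_pow_pos k; omega)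
        (orderOf_dvd_of_pow_eq_one e')
      rw [hk, pow_succ, pow_succ] at h3
      have := Nat.two_pow_pos k
      omega
  rcases h.eq_a_or_inv (pow_mem hx _) hy with e' | e'
  · exact ⟨_, e'⟩
  · refine ⟨2 ^ k * 3, ?_⟩
    rw [pow_mul, e', inv_pow, inv_eq_iff_mul_eq_one, ← pow_succ, h.a_four]

/-- An automorphism of odd order of a subgroup of `D` that fixes `σ ^ r` is trivial. -/
theorem Quat.aut_eq_one {Q : Subgroup K} (hQ : Q ≤ D) {α : MulAut Q} {m : ℕ} (hm : Odd m)
    (hαm : α ^ m = 1) (ha : ∀ x : Q, (x : K) = σ ^ r → α x = x) : α = 1 := by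
  have := h.finite
  have : Finite Q := Finite.of_injective _ (Subgroup.inclusion_injective hQ)
  -- squares of odd order maps
  have hodd : ∀ x : Q, α (α x) = x → α x = x := fun x hx => by
    obtain ⟨k, hk⟩ := hm
    have h2 : ∀ j : ℕ, (α ^ (2 * j)) x = x := fun j => by
      induction j with
      | zero => simp
      | succ j ih => rw [mul_add, pow_add, MulAut.mul_apply, show (α ^ (2 * 1)) x = x by
          simpa [pow_two] using hx, ih]
    have h3 := congrArg (fun β : MulAut Q => β x) hαm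
    simp only [hk, pow_succ', MulAut.mul_apply, h2, MulAut.one_apply] at h3
    exact h3
  have hpowx : ∀ x : Q, ∃ k, orderOf x = 2 ^ k := fun x => by
    obtain ⟨k, hk⟩ := IsPGroup.iff_orderOf.1 h.isPGroup ⟨(x : K), hQ x.2⟩
    exact ⟨k, by rw [← Subgroup.orderOf_coe, ← hk, Subgroup.orderOf_mk]⟩
  have hz : ∀ x : Q, (x : K) = σ ^ (2 * r) → α x = x := fun x hx => by
    have h1 : (α x) * (α x) = 1 := by
      rw [← map_mul, show x * x = 1 from Subtype.ext (by
        rw [Subgroup.coe_mul, hx, h.z_sq, Subgroup.coe_one]), map_one]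
    have h2 : ((α x : Q) : K) * (α x : Q) = 1 := congrArg Subtype.val h1
    have hrot : ((α x : Q) : K) ∈ Subgroup.zpowers σ := by
      by_contra hn
      exact h.z_ne ((h.sq_eq_z (hQ (α x).2) hn).symm.trans h2)
    rcases h.eq_one_or_z hrot h2 with e | e
    · have : x = 1 := α.injective (by rw [map_one]; exact Subtype.ext e)
      rw [this, map_one]
    · exact Subtype.ext (e.trans hx.symm)
  have hmap : ∀ x : Q, (x : K) ∈ Subgroup.zpowers σ → ((α x : Q) : K) ∈ Subgroup.zpowers σ := by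
    intro x hx
    by_contra hn
    have h1 : ((α x : Q) : K) * (α x : Q) = σ ^ (2 * r) := h.sq_eq_z (hQ (α x).2) hn
    have h4 : x * x * (x * x) = 1 := α.injective (by
      rw [map_mul, map_mul, map_one]
      exact Subtype.ext (by
        rw [Subgroup.coe_mul, Subgroup.coe_mul, h1, h.z_sq, Subgroup.coe_one]))
    have h4' : ((x : K) * x) * ((x : K) * x) = 1 := congrArg Subtype.val h4
    rcases h.eq_one_or_z (mul_mem hx hx) h4' with e | e
    · have : α x * α x = 1 := by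
        rw [← map_mul, show x * x = 1 from Subtype.ext e, map_one]
      exact h.z_ne (h1.symm.trans (congrArg Subtype.val this))
    · rcases h.eq_a_or_inv hx e with e' | e'
      · rw [ha x e', e'] at hn
        exact hn (Subgroup.npow_mem_zpowers σ r)
      · have hfix : α x = x := by
          have := ha x⁻¹ (by rw [Subgroup.coe_inv, e', inv_inv])
          rwa [map_inv, inv_inj] at this
        rw [hfix] at hn
        exact hn hx
  have hR : ∀ k : ℕ, ∀ x : Q, (x : K) ∈ Subgroup.zpowers σ → orderOf x ∣ 2 ^ k → α x = x := by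
    intro k
    induction k with
    | zero =>
      intro x _ hx
      rw [show x = 1 from orderOf_eq_one_iff.1 (Nat.dvd_one.1 (by simpa using hx)), map_one]
    | succ k ih =>
      intro x hx hk
      have h2 : orderOf (x * x) ∣ 2 ^ k := by
        refine orderOf_dvd_of_pow_eq_one ?_
        rw [← pow_two, ← pow_mul, ← pow_succ']
        exact orderOf_dvd_iff_pow_eq_one.1 hk
      have hfix := ih (x * x) (mul_mem hx hx) h2
      rw [map_mul] at hfix
      have hc : Commute ((α x : Q) : K) (x : K) := by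
        obtain ⟨i, hi⟩ := Subgroup.mem_zpowers_iff.1 (hmap x hx)
        obtain ⟨j, hj⟩ := Subgroup.mem_zpowers_iff.1 hx
        rw [← hi, ← hj]
        exact Commute.zpow_zpow_self σ i j
      set t : Q := x⁻¹ * α x with ht
      have htσ : (t : K) ∈ Subgroup.zpowers σ := mul_mem (inv_mem hx) (hmap x hx)
      have ht2 : (t : K) * t = 1 := by
        rw [ht, Subgroup.coe_mul, Subgroup.coe_inv]
        calc (x : K)⁻¹ * (α x : Q) * ((x : K)⁻¹ * (α x : Q))
            = ((x : K)⁻¹ * (x : K)⁻¹) * (((α x : Q) : K) * (α x : Q)) := by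
              rw [mul_assoc, ← mul_assoc ((α x : Q) : K), (hc.inv_right).eq]
              group
          _ = 1 := by
              rw [← Subgroup.coe_mul, hfix, Subgroup.coe_mul]
              group
      have htfix : α t = t := by
        rcases h.eq_one_or_z htσ ht2 with e | e
        · rw [show t = 1 from Subtype.ext e, map_one]
        · exact hz t e
      refine hodd x ?_
      rw [show α x = x * t by rw [ht, mul_inv_cancel_left], map_mul, htfix,
        show α x = x * t by rw [ht, mul_inv_cancel_left], mul_assoc,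
        show t * t = 1 from Subtype.ext ht2, mul_one]
  have hrot : ∀ x : Q, (x : K) ∈ Subgroup.zpowers σ → α x = x := fun x hx => by
    obtain ⟨k, hk⟩ := hpowx x
    exact hR k x hx hk.dvd
  have hout : ∀ x : Q, (x : K) ∉ Subgroup.zpowers σ → ((α x : Q) : K) ∉ Subgroup.zpowers σ :=
    fun x hx hn => hx (by rwa [α.injective (hrot _ hn)] at hn)
  refine MulEquiv.ext fun x => ?_
  rw [MulAut.one_apply]
  by_cases hx : (x : K) ∈ Subgroup.zpowers σ
  · exact hrot x hx
  have hr : ((x⁻¹ * α x : Q) : K) ∈ Subgroup.zpowers σ := by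
    obtain ⟨i, hi | hi⟩ := h.elt x (hQ x.2)
    · exact absurd ⟨i, hi.symm⟩ hx
    obtain ⟨j, hj | hj⟩ := h.elt _ (hQ (α x).2)
    · exact absurd ⟨j, hj.symm⟩ (hout x hx)
    refine ⟨i - j, ?_⟩
    show σ ^ (i - j) = _
    rw [Subgroup.coe_mul, Subgroup.coe_inv, hi, hj, mul_inv_rev]
    have e : τ * σ ^ (i - j) = σ ^ (-(i - j)) * τ := mul_inv_eq_iff_eq_mul.1 (h.conj_zpow _)
    calc σ ^ (i - j) = τ⁻¹ * (τ * σ ^ (i - j)) := by group
      _ = τ⁻¹ * (σ ^ i)⁻¹ * (σ ^ j * τ) := by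
        rw [e]
        group
  have hrfix := hrot _ hr
  have hpow : ∀ n : ℕ, (α ^ n) x = x * (x⁻¹ * α x) ^ n := fun n => by
    induction n with
    | zero => simp
    | succ n ih =>
      rw [pow_succ', MulAut.mul_apply, ih, map_mul, map_pow, hrfix,
        pow_succ' (x⁻¹ * α x) n, ← mul_assoc, mul_inv_cancel_left]
  have h1 := hpow m
  rw [hαm, MulAut.one_apply, left_eq_mul] at h1
  obtain ⟨k, hk⟩ := hpowx (x⁻¹ * α x)
  have hd := orderOf_dvd_of_pow_eq_one h1
  rw [hk] at hd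
  rcases k with _ | k
  · rw [pow_zero, orderOf_eq_one_iff, inv_mul_eq_one] at hk
    exact hk.symm
  · obtain ⟨b, hb⟩ := hm
    have : 2 ∣ m := (dvd_pow_self 2 k.succ_ne_zero).trans hd
    omega

omit h in
/-- An automorphism of odd order that preserves or inverts an element fixes it. -/
theorem fix_of_sign {Q : Subgroup K} {α : MulAut Q} {m : ℕ} (hm : Odd m) (hαm : α ^ m = 1)
    {x : Q} (hα : α x = x ∨ α x = x⁻¹) : α x = x := by
  rcases hα with e | e
  · exact e
  obtain ⟨k, rfl⟩ := hm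
  have h2 : ∀ j : ℕ, (α ^ (2 * j)) x = x := fun j => by
    induction j with
    | zero => simp
    | succ j ih => rw [mul_add, pow_add, MulAut.mul_apply, show (α ^ (2 * 1)) x = x by
        rw [mul_one, pow_two, MulAut.mul_apply, e, map_inv, e, inv_inv], ih]
  have h3 := congrArg (fun β : MulAut Q => β x) hαm
  simp only [pow_succ', MulAut.mul_apply, h2, MulAut.one_apply] at h3
  exact h3

end CfsgLib.Blocks.QuaternionDefect
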