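import Cfsg.Agent.Lib.Blocks.QuaternionDefect.Induce
import Cfsg.Agent.Lib.Blocks.DihedralDefect.Convolution
import Cfsg.Agent.Lib.Char.Clifford

/-!
# Heights from the restriction to the local block

If `ξ₀` has height zero in the nilpotent local block and `Φ η` occurs `n η` times in the
restriction of `χ`, then the height of `χ` is the exponent of 2 in `∑ η 1 * n η`.
-/

set_option autoImplicit false

namespace CfsgLib.Blocks.QuaternionDefect

open Cfsg MonoidAlgebra CfsgLib.Blocks CfsgLib.Pairs CfsgLib.Star CfsgLib.Char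
  CfsgLib.Blocks.DihedralDefect
open scoped Classical ComplexConjugate

variable {G : Type*} [Group G] [Fintype G] {M : Ideal AlgInt} [M.IsPrime]

/-- The central character of an integral class function is constant modulo the ideal on a block. -/
theorem ev_congr {f : G → ℂ} (hf : IsClassFunction G f) (hi : ∀ g, f g ∈ localRing M)
    {χ ψ : IrrCharacter G} (h : SameBlock M (χ : G → ℂ) (ψ : G → ℂ)) :
    ∃ u v : localRing M, (u : ℂ) = ev χ f ∧ (v : ℂ) = ev ψ f ∧ resHom M u = resHom M v := by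
  set a : MonoidAlgebra (localRing M) G := ofFun fun x => ⟨f x⁻¹, hi _⟩ with ha
  have hc : IsCentralElt a := fun g t => by
    simp only [ha, coeff_ofFun]
    exact Subtype.ext (by simp only [mul_inv_rev, inv_inv, ← mul_assoc]; exact hf _ _)
  have key : ∀ θ : IrrCharacter G, omega (θ : G → ℂ) (inc M a) = ev θ f := fun θ => by
    rw [omega_apply, ev]
    congr 1
    refine Fintype.sum_equiv (Equiv.inv G) _ _ fun g => ?_
    rw [coeff_inc, ha, coeff_ofFun]
    simp
  refine ⟨⟨_, omega_inc_mem χ hc⟩, ⟨_, omega_inc_mem ψ hc⟩, key χ, key ψ, ?_⟩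
  rw [← omegaBar_red χ hc, ← omegaBar_red ψ hc, omegaBar_congr h]

/-- The class function on `G` induced from the idempotent of a block of a subgroup. -/
noncomputable def tfun {K : Subgroup G} (b : Set (IrrCharacter K)) : G → ℂ :=
  indFun K fun k : K => blockCoeff b k⁻¹

variable [Fact (Nat.Prime 2)] {B : Set (IrrCharacter G)}
  {K : Subgroup G} {b : Set (IrrCharacter K)} {D : Subgroup K} {σ τ : K} {r : ℕ}
  {l : Subgroup.zpowers σ →* ℂˣ}
  {e : Set (IrrCharacter (Subgroup.centralizer (D : Set K)))} {F : FusionSystem D}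
  {ξ₀ : IrrCharacter K} {Φ : IrrCharacter D ≃ b} [Fintype (IrrCharacter D)]
  (C : Ctx M B b D σ τ r l e F ξ₀ Φ)
include C

omit [Fintype (IrrCharacter D)] in
theorem Ctx.Φ_regular (η : IrrCharacter D) {w : K} (hw : ¬ 2 ∣ orderOf w) :
    ((Φ η : IrrCharacter K) : K → ℂ) w = (η : D → ℂ) 1 * (ξ₀ : K → ℂ) w := by
  rw [C.loc.formula, star_apply_regular C.loc.modular C.loc.hF C.loc.mem
    (isStableChar_extP C.loc.inn η) hw, ← Subgroup.coe_one D, extP_coe]

/-- The weighted number of constituents. -/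
noncomputable def Ctx.deg1 (χ : IrrCharacter G) : ℕ :=
  ∑ η : IrrCharacter D, charDegree (η : D → ℂ) * C.num η χ

theorem Ctx.blockCoeff_inv (k : K) : blockCoeff b k⁻¹ = ∑ η : IrrCharacter D,
    ((Nat.card K : ℂ)⁻¹ * ((Φ η : IrrCharacter K) : K → ℂ) 1) *
      ((Φ η : IrrCharacter K) : K → ℂ) k := by
  have := Fintype.ofFinite b
  rw [blockCoeff, finsum_mem_eq_finite_toFinset_sum _ (Set.toFinite b), Finset.mul_sum,
    Finset.sum_subtype (p := fun ψ => ψ ∈ b) _ (fun ψ => Set.Finite.mem_toFinset _)]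
  refine (Φ.sum_comp fun ψ : b => (Nat.card K : ℂ)⁻¹ *
    (((ψ : IrrCharacter K) : K → ℂ) 1 * conj (((ψ : IrrCharacter K) : K → ℂ) k⁻¹))).symm.trans ?_
  refine Finset.sum_congr rfl fun η _ => ?_
  rw [Char.IsIrr.map_inv (Φ η : IrrCharacter K).2, Complex.conj_conj, mul_assoc]

theorem Ctx.isClassFunction_idem : IsClassFunction K fun k : K => blockCoeff b k⁻¹ := fun k y => by
  simp only [C.blockCoeff_inv, Char.IsIrr.isClassFunction (Φ _ : IrrCharacter K).2 k y]

theorem Ctx.isClassFunction_tfun : IsClassFunction G (tfun b) := isClassFunction_indFun _ _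

theorem Ctx.tfun_mem (g : G) : tfun b g ∈ localRing M := by
  have hb : IsPBlock M b := C.loc.nil.1
  rw [tfun, CfsgLib.Clifford.indFun_eq_sum_quotient K C.isClassFunction_idem]
  refine Subring.sum_mem _ fun q _ => ?_
  by_cases hm : q.out⁻¹ * g * q.out ∈ K
  · rw [extendByZero_of_mem K _ hm]
    exact blockCoeff_mem hb _
  · rw [extendByZero_of_notMem K _ hm]
    exact zero_mem _

/-- The central character of the induced idempotent. -/
theorem Ctx.ev_tfun (χ : IrrCharacter G) :
    (χ : G → ℂ) 1 * ev χ (tfun b) =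
      (K.index : ℂ) * ((ξ₀ : K → ℂ) 1 * (C.deg1 χ : ℂ)) := by
  rw [ev_eq_classInner, mul_div_cancel₀ _ (Char.IsIrr.apply_one_ne_zero χ.2), tfun,
    frobenius_reciprocity _ _ (Char.IsIrr.isClassFunction χ.2)]
  have h1 : (fun k : K => blockCoeff b k⁻¹) = ∑ η : IrrCharacter D,
      ((Nat.card K : ℂ)⁻¹ * ((Φ η : IrrCharacter K) : K → ℂ) 1) •
        ((Φ η : IrrCharacter K) : K → ℂ) := funext fun k => by
    rw [C.blockCoeff_inv, Finset.sum_apply]
    rfl
  rw [h1, classInner_sum_left, Ctx.deg1]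
  push_cast
  rw [Finset.mul_sum, Finset.mul_sum, Finset.mul_sum]
  refine Finset.sum_congr rfl fun η _ => ?_
  rw [classInner_smul_left, C.num_spec, C.Φ_regular η (w := 1) (by simp),
    apply_one_eq_charDegree η, ← K.index_mul_card]
  have : (Nat.card K : ℂ) ≠ 0 := Nat.cast_ne_zero.2 Nat.card_pos.ne'
  push_cast
  field_simp

/-- The weighted number of constituents and the height. -/
theorem Ctx.exists_scaled (χ : IrrCharacter G) (hχ : χ ∈ B) :
    ∃ o o' : ℕ, ¬ 2 ∣ o ∧ ¬ 2 ∣ o' ∧
      (2 : ℂ) ^ blockHeight 2 B (χ : G → ℂ) * (o : ℂ) * ev χ (tfun b) =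
        (o' : ℂ) * (C.deg1 χ : ℂ) := by
  have hM := C.loc.modular
  have hb : IsPBlock M b := C.loc.nil.1
  obtain ⟨o, ho, ho2⟩ := exists_factorization (p := 2) (charDegree_pos χ).ne'
  obtain ⟨s, hs, hs2⟩ := exists_factorization (p := 2) (charDegree_pos ξ₀).ne'
  obtain ⟨t, ht, ht2⟩ := exists_factorization (p := 2)
    (Subgroup.index_ne_zero_of_finite (H := K))
  have hK := card_eq_minExp_add hM hb
  have hG := card_eq_minExp_add hM C.block
  have hidx : K.index.factorization 2 + minExp 2 b = minExp 2 B := by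
    have h1 : (Nat.card G).factorization 2 =
        K.index.factorization 2 + (Nat.card K).factorization 2 := by
      rw [← K.index_mul_card, Nat.factorization_mul Subgroup.index_ne_zero_of_finite
        Nat.card_pos.ne', Finsupp.add_apply]
    have := C.defect
    omega
  have hχe : (charDegree (χ : G → ℂ)).factorization 2 =
      minExp 2 B + blockHeight 2 B (χ : G → ℂ) := by
    have h1 := minExp_le (p := 2) hχ
    have h2 : blockHeight 2 B (χ : G → ℂ) =
      (charDegree (χ : G → ℂ)).factorization 2 - minExp 2 B := rfl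
    omega
  refine ⟨o, t * s, ho2, fun h => ((Nat.prime_two.dvd_mul).1 h).elim ht2 hs2, ?_⟩
  have h := C.ev_tfun χ
  rw [apply_one_eq_charDegree, ho, hχe, apply_one_eq_charDegree, hs,
    (blockHeight_eq_zero_iff_minExp C.loc.mem).1 C.loc.height, ht, ← hidx] at h
  push_cast at h ⊢
  refine mul_left_cancel₀ (pow_ne_zero (K.index.factorization 2 + minExp 2 b)
    (two_ne_zero : (2 : ℂ) ≠ 0)) ?_
  simp only [pow_add] at h ⊢
  linear_combination h

/-- If some weighted number is odd, the weighted numbers give the heights. -/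
theorem Ctx.height_eq {χ₁ : IrrCharacter G} (hχ₁ : χ₁ ∈ B) (hodd : Odd (C.deg1 χ₁))
    {χ : IrrCharacter G} (hχ : χ ∈ B) :
    C.deg1 χ ≠ 0 ∧ blockHeight 2 B (χ : G → ℂ) = (C.deg1 χ).factorization 2 := by
  have hM := C.loc.modular
  have h2 : MemLocalIdeal M ((2 : ℕ) : ℂ) := (memLocalIdeal_natCast_iff hM).2 dvd_rfl
  obtain ⟨u, v, hu, hv, huv⟩ := ev_congr (M := M) C.isClassFunction_tfun C.tfun_mem
    (IsPBlock.sameBlock C.block hχ hχ₁)
  have hnu : ∀ {n : ℕ}, ¬ 2 ∣ n → resHom M (n : localRing M) ≠ 0 := fun {n} hn h0 => by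
    have := residue_eq_zero_iff.1 h0
    rw [show ((n : localRing M) : ℂ) = (n : ℂ) by simp] at this
    exact hn ((memLocalIdeal_natCast_iff hM).1 this)
  have h20 : resHom M (2 : localRing M) = 0 := by
    have := residue_natCast_self (M := M) hM
    simpa using this
  have hc2 : ((2 : localRing M) : ℂ) = 2 := rfl
  have hv0 : resHom M v ≠ 0 := by
    obtain ⟨o, o', ho, ho', he⟩ := C.exists_scaled χ₁ hχ₁
    intro h0
    have he' : (2 : localRing M) ^ blockHeight 2 B (χ₁ : G → ℂ) * (o : localRing M) * v =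
        (o' : localRing M) * (C.deg1 χ₁ : localRing M) := Subtype.ext (by
      push_cast
      rw [hc2, hv, he])
    have := congrArg (resHom M) he'
    rw [map_mul, h0, mul_zero, map_mul] at this
    rcases mul_eq_zero.1 this.symm with e' | e'
    · exact hnu ho' e'
    · exact hnu (Nat.not_even_iff_odd.2 hodd ∘ even_iff_two_dvd.2) e'
  have hu0 : resHom M u ≠ 0 := huv ▸ hv0
  obtain ⟨o, o', ho, ho', he⟩ := C.exists_scaled χ hχ
  have hne : C.deg1 χ ≠ 0 := fun h0 => by
    rw [h0, Nat.cast_zero, mul_zero, ← hu, mul_eq_zero, mul_eq_zero] at he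
    rcases he with (e' | e') | e'
    · exact pow_ne_zero _ two_ne_zero e'
    · exact ho (by rw [Nat.cast_eq_zero.1 e']; exact dvd_zero 2)
    · exact hu0 (by rw [show u = 0 from Subtype.ext e', map_zero])
  obtain ⟨w, hw, hw2⟩ := exists_factorization (p := 2) hne
  refine ⟨hne, ?_⟩
  set h := blockHeight 2 B (χ : G → ℂ)
  set k := (C.deg1 χ).factorization 2
  rw [hw, Nat.cast_mul, Nat.cast_pow, Nat.cast_ofNat, ← hu] at he
  by_contra hne'
  rcases Nat.lt_or_gt_of_ne hne' with hlt | hlt
  · obtain ⟨d, hd⟩ := Nat.exists_eq_add_of_lt hlt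
    rw [hd, pow_add, pow_succ] at he
    have he' : (o : localRing M) * u =
        (o' : localRing M) * (w : localRing M) * (2 : localRing M) ^ d * 2 := Subtype.ext (by
      push_cast
      rw [hc2]
      refine mul_left_cancel₀ (pow_ne_zero h (two_ne_zero : (2 : ℂ) ≠ 0)) ?_
      linear_combination he)
    have := congrArg (resHom M) he'
    simp only [map_mul, h20, mul_zero] at this
    rcases mul_eq_zero.1 this with e' | e'
    · exact hnu ho e'
    · exact hu0 e'
  · obtain ⟨d, hd⟩ := Nat.exists_eq_add_of_lt hlt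
    rw [hd, pow_add, pow_succ] at he
    have he' : (o' : localRing M) * (w : localRing M) =
        (o : localRing M) * u * (2 : localRing M) ^ d * 2 := Subtype.ext (by
      push_cast
      rw [hc2]
      refine mul_left_cancel₀ (pow_ne_zero k (two_ne_zero : (2 : ℂ) ≠ 0)) ?_
      linear_combination -he)
    have := congrArg (resHom M) he'
    simp only [map_mul, h20, mul_zero] at this
    rcases mul_eq_zero.1 this with e' | e'
    · exact hnu ho' e'
    · exact hnu hw2 e'

/-- The sum of the rotation integers at a character of `D`. -/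
theorem Ctx.exists_sum_dd (η : IrrCharacter D) :
    ∃ m : ℤ, ∑ j ∈ Finset.range (2 * (2 * r)), C.dd η j =
      ((2 * (2 * r) : ℕ) : ℤ) * m - (charDegree (η : D → ℂ) : ℤ) := by
  obtain ⟨m, hm⟩ := C.quat.exists_nat_mult η 0
  refine ⟨m, ?_⟩
  have h : ((∑ j ∈ Finset.range (2 * (2 * r)), C.dd η j : ℤ) : ℂ) =
      ((2 * (2 * r) : ℕ) : ℂ) * (m : ℂ) - (charDegree (η : D → ℂ) : ℂ) := by
    push_cast
    rw [Finset.sum_congr rfl fun j _ => by rw [← C.dd_spec, C.quat.classInner_dlt, hm],
      Finset.sum_sub_distrib, C.quat.sum_mult, Finset.sum_const, Finset.card_range, nsmul_eq_mul,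
      show (1 : K) = ((1 : D) : K) from rfl, extendByZero_coe', apply_one_eq_charDegree η,
      map_natCast]
    push_cast
    ring
  exact_mod_cast h

theorem Ctx.dvd_deg1_add (χ : IrrCharacter G) :
    ((2 * (2 * r) : ℕ) : ℤ) ∣
      (C.deg1 χ : ℤ) + ∑ j ∈ Finset.range (2 * (2 * r)), C.xx j χ := by
  choose m hm using C.exists_sum_dd
  refine ⟨∑ η : IrrCharacter D, m η * C.num η χ, ?_⟩
  simp only [Ctx.xx, Ctx.deg1]
  rw [Finset.sum_comm]
  simp only [← Finset.sum_mul, hm]
  push_cast
  rw [← Finset.sum_add_distrib, Finset.mul_sum]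
  exact Finset.sum_congr rfl fun η _ => by ring

/-- The weighted number modulo the order of a rotation group of index 2. -/
theorem Ctx.dvd_deg1_vectors (χ : IrrCharacter G) :
    2 * (r : ℤ) ∣ (C.deg1 χ : ℤ) + C.X r χ +
      2 * (∑ i ∈ Finset.Ico 1 r, C.X i χ - ∑ i ∈ Finset.Ico 1 r, C.Y i χ) := by
  have hr := C.quat.one_le
  have h1 : ∑ j ∈ Finset.range (2 * (2 * r)), C.xx j χ =
      C.xx (2 * r) χ + 2 * ∑ j ∈ Finset.range (2 * r), C.xx j χ := by
    rw [show 2 * (2 * r) = 2 * r + 2 * r by ring, Finset.sum_range_add]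
    have e1 : ∀ n, ∑ j ∈ Finset.range (n + 1), C.xx j χ =
        C.xx 0 χ + ∑ j ∈ Finset.range n, C.xx (j + 1) χ := fun n => by
      rw [Finset.sum_range_succ', add_comm]
    have e2 : ∑ j ∈ Finset.range (2 * r), C.xx (2 * r + j) χ =
        ∑ j ∈ Finset.range (2 * r), C.xx (j + 1) χ := by
      rw [← Finset.sum_range_reflect]
      refine Finset.sum_congr rfl fun j hj => ?_
      rw [Finset.mem_range] at hj
      rw [← C.xx_symm (j := j + 1) (by omega)]
      congr 1
      omega
    have e3 : ∑ j ∈ Finset.range (2 * r), C.xx (j + 1) χ =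
        ∑ j ∈ Finset.range (2 * r), C.xx j χ + C.xx (2 * r) χ := by
      have h1 := e1 (2 * r)
      rw [Finset.sum_range_succ, C.xx_zero, zero_add] at h1
      exact h1.symm
    rw [e2, e3]
    ring
  have h2 : ∀ n, ∑ j ∈ Finset.range (2 * n), C.xx j χ =
      ∑ i ∈ Finset.range n, C.xx (2 * i) χ + ∑ i ∈ Finset.range n, C.xx (2 * i + 1) χ := fun n => by
    induction n with
    | zero => simp
    | succ n ih =>
      rw [mul_add, mul_one, Finset.sum_range_succ, Finset.sum_range_succ, ih,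
        Finset.sum_range_succ, Finset.sum_range_succ]
      ring
  have h3 : ∑ i ∈ Finset.range r, C.xx (2 * i) χ = ∑ i ∈ Finset.Ico 1 r, C.X i χ := by
    rw [Finset.range_eq_Ico, Finset.sum_eq_sum_Ico_succ_bot (by omega : 0 < r), mul_zero,
      C.xx_zero, zero_add]
    rfl
  have h4 : ∑ i ∈ Finset.range r, C.xx (2 * i + 1) χ =
      (r : ℤ) * C.xx 1 χ - ∑ i ∈ Finset.Ico 1 r, C.Y i χ := by
    simp only [Ctx.Y, Finset.sum_sub_distrib, Finset.sum_const, Nat.card_Ico, nsmul_eq_mul]
    rw [Finset.range_eq_Ico, Finset.sum_eq_sum_Ico_succ_bot (by omega : 0 < r), mul_zero, zero_add,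
      Nat.cast_sub hr]
    push_cast
    ring
  obtain ⟨c, hc⟩ := C.dvd_deg1_add χ
  rw [h1, h2, h3, h4] at hc
  refine ⟨2 * c - C.xx 1 χ, ?_⟩
  rw [Ctx.X]
  push_cast at hc
  linear_combination hc

end CfsgLib.Blocks.QuaternionDefect
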