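import Cfsg.Agent.Lib.Blocks.QuaternionDefect.Setting

/-!
# The induced generalized characters of a block with quaternion defect group

The functions `dlt (2 * i)` and `dlt 1 - dlt (2 * i + 1)` live on the rotations having the
rotation `a` of order 4 as a power; these elements form a trivial intersection set relative to
the normalizer of `⟨a⟩`.
-/

set_option autoImplicit false

namespace CfsgLib.Blocks.QuaternionDefect

open Cfsg CfsgLib.Blocks CfsgLib.Pairs CfsgLib.Star CfsgLib.Char CfsgLib.Blocks.DihedralDefect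
open scoped Classical ComplexConjugate

variable {G : Type*} [Group G]

/-- A conjugation inside the support preserves or inverts the element of order 4. -/
theorem Supp.conj_eq_or_inv {a g x : G} (ha : orderOf a = 4) (hg : Supp a g)
    (hg' : Supp a (x * g * x⁻¹)) : x * a * x⁻¹ = a ∨ x * a * x⁻¹ = a⁻¹ := by
  obtain ⟨m, hm⟩ := hg
  obtain ⟨m', hm'⟩ := hg'
  set h := x * g * x⁻¹
  have key : ∀ (y : G) (k : ℕ), h ^ k = y → orderOf y = 4 →
      ∃ n c : ℕ, orderOf h = 4 * n ∧ k = n * c ∧ Odd c := by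
    intro y k hk hy
    obtain ⟨c, hc⟩ : orderOf h ∣ k * 4 := orderOf_dvd_of_pow_eq_one (by
      rw [pow_mul, hk, ← hy, pow_orderOf_eq_one])
    have hodd : Odd c := by
      refine Nat.not_even_iff_odd.1 fun ⟨d, hd⟩ => ?_
      have h2 : y ^ 2 = 1 := by
        rw [← hk, ← pow_mul]
        refine orderOf_dvd_iff_pow_eq_one.1 ⟨d, ?_⟩
        rw [hd, mul_add] at hc
        omega
      have := Nat.le_of_dvd (by norm_num) (orderOf_dvd_of_pow_eq_one h2)
      omega
    have h4 : 4 ∣ orderOf h := by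
      refine (Nat.Coprime.dvd_of_dvd_mul_right ?_ (n := c) ⟨k, by rw [← hc, mul_comm]⟩)
      exact Nat.Coprime.pow_left 2 (Nat.coprime_two_left.2 hodd)
    obtain ⟨n, hn⟩ := h4
    refine ⟨n, c, hn, ?_, hodd⟩
    rw [hn] at hc
    linarith
  have hb : h ^ m = x * a * x⁻¹ := by rw [conj_pow, hm]
  obtain ⟨n, c, hn, hmc, hc⟩ := key _ m hb (by
    rw [← ha]; exact MulEquiv.orderOf_eq (MulAut.conj x) a)
  obtain ⟨n', c', hn', hmc', hc'⟩ := key _ m' hm' ha
  obtain rfl : n = n' := by omega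
  have hw : (h ^ n) ^ 4 = 1 := by rw [← pow_mul, mul_comm, ← hn, pow_orderOf_eq_one]
  have hpow : ∀ d : ℕ, Odd d → (h ^ n) ^ d = h ^ n ∨ (h ^ n) ^ d = (h ^ n)⁻¹ := by
    intro d hd
    obtain ⟨t, ht⟩ := hd
    rcases Nat.even_or_odd t with ⟨u, hu⟩ | ⟨u, hu⟩
    · left
      rw [ht, hu, show 2 * (u + u) + 1 = 4 * u + 1 by ring, pow_succ, pow_mul, hw, one_pow, one_mul]
    · right
      rw [ht, hu, show 2 * (2 * u + 1) + 1 = 4 * u + 3 by ring, pow_add, pow_mul, hw, one_pow,
        one_mul]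
      exact eq_inv_of_mul_eq_one_left (by rw [← pow_succ, hw])
  rw [← hb, ← hm', hmc, hmc', pow_mul, pow_mul]
  rcases hpow c hc with e | e <;> rcases hpow c' hc' with e' | e' <;> rw [e, e'] <;> simp

variable [Fintype G] {H : Subgroup G}

/-- A function on `H` supported on the trivial intersection set induces to itself there. -/
theorem indFun_eq_self {a : G}
    (hH : ∀ g x : G, Supp a g → Supp a (x * g * x⁻¹) → x ∈ H) {θ : H → ℂ}
    (hθ : IsClassFunction H θ) (hsupp : ∀ k : H, θ k ≠ 0 → Supp a (k : G)) {g : H}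
    (hg : Supp a (g : G)) : indFun H θ (g : G) = θ g := by
  have hterm : ∀ x : G, extendByZero H θ (x⁻¹ * g * x) = if x ∈ H then θ g else 0 := by
    intro x
    by_cases hx : x ∈ H
    · rw [if_pos hx, show x⁻¹ * (g : G) * x = (((⟨x, hx⟩ : H)⁻¹ * g * ⟨x, hx⟩ : H) : G) from rfl,
        extendByZero_coe]
      have := hθ g (⟨x, hx⟩ : H)⁻¹
      rwa [inv_inv] at this
    · rw [if_neg hx]
      by_contra hne
      by_cases hm : x⁻¹ * (g : G) * x ∈ H
      · rw [show x⁻¹ * (g : G) * x = ((⟨_, hm⟩ : H) : G) from rfl, extendByZero_coe] at hne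
        exact hx (hH _ x (hsupp _ hne)
          (by rw [show x * (x⁻¹ * (g : G) * x) * x⁻¹ = (g : G) by group]; exact hg))
      · exact hne (extendByZero_of_notMem H θ hm)
  rw [indFun, Finset.sum_congr rfl fun x _ => hterm x, Finset.sum_ite, Finset.sum_const_zero,
    add_zero, Finset.sum_const, nsmul_eq_mul,
    show (Finset.univ.filter (fun x : G => x ∈ H)).card = Nat.card H by
      rw [Nat.card_eq_fintype_card, Fintype.card_subtype],
    inv_mul_cancel_left₀ (Nat.cast_ne_zero.2 Nat.card_pos.ne')]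

/-- Induction from the trivial intersection set is an isometry. -/
theorem classInner_indFun_indFun {a : G}
    (hH : ∀ g x : G, Supp a g → Supp a (x * g * x⁻¹) → x ∈ H) {θ θ' : H → ℂ}
    (hθ' : IsClassFunction H θ') (hsupp : ∀ k : H, θ k ≠ 0 → Supp a (k : G))
    (hsupp' : ∀ k : H, θ' k ≠ 0 → Supp a (k : G)) :
    classInner (indFun H θ) (indFun H θ') = classInner θ θ' := by
  rw [frobenius_reciprocity H θ (isClassFunction_indFun H θ'), classInner, classInner]
  congr 1
  refine Finset.sum_congr rfl fun k _ => ?_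
  by_cases hk : θ k = 0
  · rw [hk, zero_mul, zero_mul]
  · rw [indFun_eq_self hH hθ' hsupp' (hsupp k hk)]

variable {K : Subgroup G} {M : Ideal AlgInt} [M.IsPrime] [Fact (Nat.Prime 2)]
  {B : Set (IrrCharacter G)}
  {b : Set (IrrCharacter K)} {D : Subgroup K} {σ τ : K} {r : ℕ}
  {l : Subgroup.zpowers σ →* ℂˣ}
  {e : Set (IrrCharacter (Subgroup.centralizer (D : Set K)))} {F : FusionSystem D}
  {ξ₀ : IrrCharacter K} {Φ : IrrCharacter D ≃ b}

/-- The functions on the defect group used for induction. -/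
structure Adm (D : Subgroup K) (σ : K) (f : K → ℂ) : Prop where
  cls : IsClassFunction D fun x : D => f (x : K)
  off : ∀ x ∈ D, x ∉ Subgroup.zpowers σ → f x = 0
  sq : ∀ x ∈ Subgroup.zpowers σ, x * x = 1 → f x = 0

/-- The rotation functions of even index. -/
noncomputable def fX (l : Subgroup.zpowers σ →* ℂˣ) (i : ℕ) : K → ℂ := dlt l (2 * i)

/-- The differences of the rotation functions of odd index. -/
noncomputable def fY (l : Subgroup.zpowers σ →* ℂˣ) (i : ℕ) : K → ℂ :=
  dlt l 1 - dlt l (2 * i + 1)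

variable [Fintype (IrrCharacter D)]

omit [Fintype G] [M.IsPrime] [Fact (Nat.Prime 2)] [Fintype (IrrCharacter D)] in
theorem classInner_sub_left' {X : Type*} [Group X] [Fintype X] (f f' g : X → ℂ) :
    classInner (f - f') g = classInner f g - classInner f' g := by
  simp only [classInner, Pi.sub_apply, sub_mul, Finset.sum_sub_distrib, mul_sub]

omit [M.IsPrime] [Fact (Nat.Prime 2)] in
theorem comb_sub (f f' : K → ℂ) : comb Φ (f - f') = comb Φ f - comb Φ f' := by
  simp only [comb, ← Finset.sum_sub_distrib, ← sub_smul]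
  refine Finset.sum_congr rfl fun η _ => ?_
  rw [← classInner_sub_left']
  rfl

variable (C : Ctx M B b D σ τ r l e F ξ₀ Φ)
include C

omit [Fintype (IrrCharacter D)] in
theorem Ctx.a_ord : orderOf ((σ ^ r : K) : G) = 4 := by
  rw [Subgroup.orderOf_coe, C.quat.a_ord]

omit [Fintype (IrrCharacter D)] in
theorem Ctx.mem_of_supp (g x : G) (h : Supp ((σ ^ r : K) : G) g)
    (h' : Supp ((σ ^ r : K) : G) (x * g * x⁻¹)) : x ∈ K :=
  C.norm x (Supp.conj_eq_or_inv C.a_ord h h')

omit [Fintype (IrrCharacter D)] in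
theorem Ctx.adm_fX (i : ℕ) : Adm D σ (fX l i) := by
  refine ⟨C.quat.isClassFunction_dlt _, fun x _ hx => dlt_of_notMem hx _, fun x hx hx2 => ?_⟩
  rcases C.quat.eq_one_or_z hx hx2 with rfl | rfl
  · exact dlt_one _
  · rw [fX, C.quat.dlt_z, pow_mul, neg_one_sq, one_pow]; ring

omit [Fintype (IrrCharacter D)] in
theorem Ctx.adm_fY (i : ℕ) : Adm D σ (fY l i) := by
  refine ⟨fun g y => ?_, fun x _ hx => ?_, fun x hx hx2 => ?_⟩
  · simp only [fY, Pi.sub_apply, Subgroup.coe_mul, Subgroup.coe_inv, C.quat.dlt_conj y.2]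
  · simp only [fY, Pi.sub_apply, dlt_of_notMem hx, sub_zero]
  · rcases C.quat.eq_one_or_z hx hx2 with rfl | rfl
    · simp only [fY, Pi.sub_apply, dlt_one, sub_zero]
    · rw [fY, Pi.sub_apply, C.quat.dlt_z, C.quat.dlt_z, pow_succ _ (2 * i), pow_mul, neg_one_sq,
        one_pow, pow_one]
      ring

omit [Fintype (IrrCharacter D)] in
/-- A rotation of order at least 4 among the images puts an element in the support. -/
theorem Ctx.supp_of_image {g u x : K} (hu : u ∈ Subgroup.zpowers g)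
    (hx : x * u * x⁻¹ ∈ Subgroup.zpowers σ) (hu2 : u * u ≠ 1) :
    Supp ((σ ^ r : K) : G) (g : G) := by
  obtain ⟨m, hm⟩ := C.quat.exists_pow_eq_a hx fun e => hu2 (by
    rwa [show x * u * x⁻¹ * (x * u * x⁻¹) = x * (u * u) * x⁻¹ by group, conj_eq_one_iff] at e)
  have h1 : u ^ m = x⁻¹ * σ ^ r * x⁻¹⁻¹ := by rw [← hm, conj_pow]; group
  obtain ⟨k, hk⟩ := (mem_powers_iff_mem_zpowers.2 hu : u ∈ Submonoid.powers g)
  simp only at hk
  rcases C.norm' x⁻¹ with e' | e'
  · exact ⟨k * m, by rw [← SubgroupClass.coe_pow, pow_mul, hk, h1, e']⟩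
  · exact ⟨k * m * 3, by
      rw [← SubgroupClass.coe_pow, pow_mul, pow_mul, hk, h1, e', inv_pow,
        show ((σ ^ r) ^ 3)⁻¹ = σ ^ r from inv_eq_of_mul_eq_one_right (by
          rw [← pow_succ, C.quat.a_four])]⟩

/-- The combinations of admissible functions are supported on the support set. -/
theorem Ctx.supp_comb {f : K → ℂ} (hf : Adm D σ f) (g : K) (hne : comb Φ f g ≠ 0) :
    Supp ((σ ^ r : K) : G) (g : G) := by
  obtain ⟨u, s, hk, hs, hc, rfl⟩ := exists_decomp (p := 2) g
  by_contra hno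
  refine hne ?_
  rw [C.loc.comb_apply_const hf.cls hk hs hc (v := 0) fun x hx => ?_, zero_mul]
  by_cases hxσ : x * u * x⁻¹ ∈ Subgroup.zpowers σ
  · by_cases hu2 : u * u = 1
    · exact hf.sq _ hxσ (by
        rw [show x * u * x⁻¹ * (x * u * x⁻¹) = x * (u * u) * x⁻¹ by group, hu2]; group)
    · exact absurd (C.supp_of_image (mem_zpowers_pPart ⟨s, rfl, hc, hk, hs⟩) hxσ hu2) hno
  · exact hf.off _ hx hxσ

/-- The number of constituents. -/
theorem Ctx.exists_nat_constituent (η : IrrCharacter D) (χ : IrrCharacter G) :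
    ∃ n : ℕ, classInner ((Φ η : IrrCharacter K) : K → ℂ) (fun k : K => (χ : G → ℂ) k) = n :=
  IsChar.classInner_eq_natCast (Char.IsIrr.isCharacter (Φ η : IrrCharacter K).2)
    (IsChar.restrict K (Char.IsIrr.isCharacter χ.2))

/-- The multiplicity of a constituent. -/
noncomputable def Ctx.num (η : IrrCharacter D) (χ : IrrCharacter G) : ℕ :=
  (C.exists_nat_constituent η χ).choose

theorem Ctx.num_spec (η : IrrCharacter D) (χ : IrrCharacter G) :
    classInner ((Φ η : IrrCharacter K) : K → ℂ) (fun k : K => (χ : G → ℂ) k) = C.num η χ :=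
  (C.exists_nat_constituent η χ).choose_spec

theorem Ctx.exists_int_dlt (η : IrrCharacter D) (j : ℕ) :
    ∃ m : ℤ, classInner (fun g : D => dlt l j (g : K)) (η : D → ℂ) = m := by
  obtain ⟨a, ha⟩ := C.quat.exists_nat_mult η 0
  obtain ⟨c, hc⟩ := C.quat.exists_nat_mult η j
  exact ⟨(a : ℤ) - c, by rw [C.quat.classInner_dlt, ha, hc]; push_cast; rfl⟩

/-- The integer attached to a rotation function and a character of `D`. -/
noncomputable def Ctx.dd (η : IrrCharacter D) (j : ℕ) : ℤ := (C.exists_int_dlt η j).choose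

theorem Ctx.dd_spec (η : IrrCharacter D) (j : ℕ) :
    classInner (fun g : D => dlt l j (g : K)) (η : D → ℂ) = C.dd η j :=
  (C.exists_int_dlt η j).choose_spec

/-- The generalized multiplicities. -/
noncomputable def Ctx.xx (j : ℕ) (χ : IrrCharacter G) : ℤ :=
  ∑ η : IrrCharacter D, C.dd η j * C.num η χ

/-- The vectors of even index. -/
noncomputable def Ctx.X (i : ℕ) (χ : IrrCharacter G) : ℤ := C.xx (2 * i) χ

/-- The differences of the vectors of odd index. -/
noncomputable def Ctx.Y (i : ℕ) (χ : IrrCharacter G) : ℤ := C.xx 1 χ - C.xx (2 * i + 1) χ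

theorem Ctx.xx_spec (j : ℕ) (χ : IrrCharacter G) :
    classInner (indFun K (comb Φ (dlt l j))) (χ : G → ℂ) = C.xx j χ := by
  rw [frobenius_reciprocity _ _ (Char.IsIrr.isClassFunction χ.2), C.loc.classInner_comb_right,
    Ctx.xx]
  push_cast
  exact Finset.sum_congr rfl fun η _ => by rw [C.num_spec, C.dd_spec]

theorem Ctx.X_spec (i : ℕ) (χ : IrrCharacter G) :
    classInner (indFun K (comb Φ (fX l i))) (χ : G → ℂ) = C.X i χ := C.xx_spec _ χ

theorem Ctx.Y_spec (i : ℕ) (χ : IrrCharacter G) :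
    classInner (indFun K (comb Φ (fY l i))) (χ : G → ℂ) = C.Y i χ := by
  rw [fY, comb_sub, frobenius_reciprocity _ _ (Char.IsIrr.isClassFunction χ.2),
    classInner_sub_left', ← frobenius_reciprocity _ _ (Char.IsIrr.isClassFunction χ.2),
    ← frobenius_reciprocity _ _ (Char.IsIrr.isClassFunction χ.2), C.xx_spec, C.xx_spec, Ctx.Y]
  push_cast
  rfl

theorem Ctx.xx_zero (χ : IrrCharacter G) : C.xx 0 χ = 0 := by
  refine Finset.sum_eq_zero fun η _ => ?_
  have h := C.dd_spec η 0
  rw [C.quat.classInner_dlt, sub_self] at h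
  rw [show C.dd η 0 = 0 by exact_mod_cast h.symm, zero_mul]

theorem Ctx.xx_symm {j : ℕ} (hj : j ≤ 2 * (2 * r)) (χ : IrrCharacter G) :
    C.xx (2 * (2 * r) - j) χ = C.xx j χ := by
  have h := C.xx_spec (2 * (2 * r) - j) χ
  rw [show (dlt l (2 * (2 * r) - j) : K → ℂ) = dlt l j from funext (C.quat.dlt_symm hj),
    C.xx_spec] at h
  exact_mod_cast h.symm

/-- The multiplicities vanish outside the block. -/
theorem Ctx.coeff_eq_zero {f : K → ℂ} (hf : Adm D σ f) {χ : IrrCharacter G} (hχ : χ ∉ B) :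
    classInner (indFun K (comb Φ f)) (χ : G → ℂ) = 0 := by
  have := Fintype.ofFinite (IrrCharacter K)
  rw [frobenius_reciprocity _ _ (Char.IsIrr.isClassFunction χ.2)]
  set φ : K → ℂ := fun k => (χ : G → ℂ) k with hφ
  have h1 : classInner (comb Φ f) (blockPart b φ) = classInner (comb Φ f) φ := by
    rw [C.loc.classInner_comb_right, C.loc.classInner_comb_right]
    refine Finset.sum_congr rfl fun η _ => ?_
    congr 1
    rw [← classInner_conj_symm, classInner_blockPart, if_pos (Φ η).2, classInner_conj_symm]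
  rw [← h1, classInner, Finset.sum_eq_zero fun g _ => ?_, mul_zero]
  by_cases hg : comb Φ f g = 0
  · rw [hg, zero_mul]
  · rw [hφ, C.vanish χ hχ g (C.supp_comb hf g hg), map_zero, mul_zero]

/-- The induced generalized character as a combination of the members of the block. -/
theorem Ctx.indFun_eq_sum {f : K → ℂ} (hf : Adm D σ f) (v : IrrCharacter G → ℤ)
    (hv : ∀ χ : IrrCharacter G, classInner (indFun K (comb Φ f)) (χ : G → ℂ) = v χ) :
    indFun K (comb Φ f) = ∑ χ ∈ (Set.toFinite B).toFinset, (v χ : ℂ) • (χ : G → ℂ) := by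
  have := Fintype.ofFinite (IrrCharacter G)
  rw [Finset.sum_subset (Finset.subset_univ (Set.toFinite B).toFinset) fun χ _ hχ => by
      rw [← hv, C.coeff_eq_zero hf fun h => hχ ((Set.Finite.mem_toFinset _).2 h), zero_smul]]
  conv_lhs => rw [classFunction_eq_sum (isClassFunction_indFun K (comb Φ f))]
  exact Finset.sum_congr rfl fun χ _ => by rw [hv]

theorem Ctx.sum_mul_eq {f f' : K → ℂ} (hf : Adm D σ f) (hf' : Adm D σ f')
    (v v' : IrrCharacter G → ℤ)
    (hv : ∀ χ : IrrCharacter G, classInner (indFun K (comb Φ f)) (χ : G → ℂ) = v χ)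
    (hv' : ∀ χ : IrrCharacter G, classInner (indFun K (comb Φ f')) (χ : G → ℂ) = v' χ) :
    ((∑ χ ∈ (Set.toFinite B).toFinset, v χ * v' χ : ℤ) : ℂ) =
      classInner (fun x : D => f (x : K)) (fun x : D => f' (x : K)) := by
  rw [← C.loc.classInner_comb hf.cls hf'.cls,
    ← classInner_indFun_indFun C.mem_of_supp (isClassFunction_comb _) (C.supp_comb hf)
      (C.supp_comb hf'), C.indFun_eq_sum hf v hv, classInner_sum_left]
  push_cast
  refine Finset.sum_congr rfl fun χ _ => ?_
  rw [classInner_smul_left, ← classInner_conj_symm, hv', map_intCast]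

/-- The relations on the regular elements. -/
theorem Ctx.sum_regular {f : K → ℂ} (hf : Adm D σ f) (v : IrrCharacter G → ℤ)
    (hv : ∀ χ : IrrCharacter G, classInner (indFun K (comb Φ f)) (χ : G → ℂ) = v χ) {g : G}
    (hg : ¬ 2 ∣ orderOf g) :
    ∑ χ ∈ (Set.toFinite B).toFinset, (v χ : ℂ) * (χ : G → ℂ) g = 0 := by
  have h := congrFun (C.indFun_eq_sum hf v hv) g
  simp only [Finset.sum_apply, Pi.smul_apply, smul_eq_mul] at h
  rw [← h]
  refine DihedralDefect.indFun_eq_zero_of_not_supp (C.supp_comb hf) fun x hx => hg ?_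
  obtain ⟨m, hm⟩ := hx
  have h1 : orderOf ((σ ^ r : K) : G) ∣ orderOf (x⁻¹ * g * x) := hm ▸ orderOf_pow_dvd m
  have h3 := MulEquiv.orderOf_eq (MulAut.conj x⁻¹) g
  rw [MulAut.conj_apply, inv_inv] at h3
  rw [C.a_ord, h3] at h1
  exact dvd_trans (by norm_num) h1

theorem Ctx.gram_X {i j : ℕ} (hi : i ∈ Finset.Icc 1 r) (hj : j ∈ Finset.Icc 1 r) :
    ∑ χ ∈ (Set.toFinite B).toFinset, C.X i χ * C.X j χ =
      2 + (if i = j then 1 else 0) + (if i = r ∧ j = r then 1 else 0) := by
  rw [Finset.mem_Icc] at hi hj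
  have h := (C.sum_mul_eq (C.adm_fX i) (C.adm_fX j) _ _ (C.X_spec i) (C.X_spec j)).trans
    (C.quat.classInner_dlt_dlt (i := 2 * i) (j := 2 * j)
      (Finset.mem_Icc.2 (by omega)) (Finset.mem_Icc.2 (by omega)))
  simp only [mul_right_inj' (two_ne_zero : (2 : ℕ) ≠ 0)] at h
  exact_mod_cast h

theorem Ctx.gram_Y {i j : ℕ} (hi : i ∈ Finset.Ico 1 r) (hj : j ∈ Finset.Ico 1 r) :
    ∑ χ ∈ (Set.toFinite B).toFinset, C.Y i χ * C.Y j χ = 1 + (if i = j then 1 else 0) := by
  rw [Finset.mem_Ico] at hi hj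
  have h := C.sum_mul_eq (C.adm_fY i) (C.adm_fY j) _ _ (C.Y_spec i) (C.Y_spec j)
  have hs : ∀ (k : ℕ) (g : D → ℂ), classInner (fun x : D => fY l k (x : K)) g =
      classInner (fun x : D => dlt l 1 (x : K)) g -
        classInner (fun x : D => dlt l (2 * k + 1) (x : K)) g := fun k g =>
    classInner_sub_left' _ _ _
  have hs' : ∀ (k : ℕ) (f : D → ℂ), classInner f (fun x : D => fY l k (x : K)) =
      classInner f (fun x : D => dlt l 1 (x : K)) -
        classInner f (fun x : D => dlt l (2 * k + 1) (x : K)) := fun k f => by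
    rw [← classInner_conj_symm, hs, map_sub, classInner_conj_symm, classInner_conj_symm]
  rw [hs, hs', hs', C.quat.classInner_dlt_dlt (Finset.mem_Icc.2 (by omega)) (Finset.mem_Icc.2 (by omega)),
    C.quat.classInner_dlt_dlt (Finset.mem_Icc.2 (by omega)) (Finset.mem_Icc.2 (by omega)),
    C.quat.classInner_dlt_dlt (Finset.mem_Icc.2 (by omega)) (Finset.mem_Icc.2 (by omega)),
    C.quat.classInner_dlt_dlt (Finset.mem_Icc.2 (by omega)) (Finset.mem_Icc.2 (by omega))] at h
  simp only [if_true, if_neg (show ¬ (1 = 2 * j + 1) by omega),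
    if_neg (show ¬ (2 * i + 1 = 1) by omega),
    if_neg (show ¬ (1 = 2 * r ∧ 1 = 2 * r) by omega),
    if_neg (show ¬ (1 = 2 * r ∧ 2 * j + 1 = 2 * r) by omega),
    if_neg (show ¬ (2 * i + 1 = 2 * r ∧ 1 = 2 * r) by omega),
    if_neg (show ¬ (2 * i + 1 = 2 * r ∧ 2 * j + 1 = 2 * r) by omega)] at h
  by_cases hij : i = j
  · rw [if_pos hij]
    rw [if_pos (show 2 * i + 1 = 2 * j + 1 by omega)] at h
    norm_num at h ⊢
    exact_mod_cast h
  · rw [if_neg hij]
    rw [if_neg (show ¬ 2 * i + 1 = 2 * j + 1 by omega)] at h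
    norm_num at h ⊢
    exact_mod_cast h

theorem Ctx.gram_XY {i j : ℕ} (hi : i ∈ Finset.Icc 1 r) (hj : j ∈ Finset.Ico 1 r) :
    ∑ χ ∈ (Set.toFinite B).toFinset, C.X i χ * C.Y j χ = 0 := by
  rw [Finset.mem_Icc] at hi
  rw [Finset.mem_Ico] at hj
  have h := C.sum_mul_eq (C.adm_fX i) (C.adm_fY j) _ _ (C.X_spec i) (C.Y_spec j)
  have hs : classInner (fun x : D => fX l i (x : K)) (fun x : D => fY l j (x : K)) =
      classInner (fun x : D => dlt l (2 * i) (x : K)) (fun x : D => dlt l 1 (x : K)) -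
        classInner (fun x : D => dlt l (2 * i) (x : K))
          (fun x : D => dlt l (2 * j + 1) (x : K)) := by
    rw [← classInner_conj_symm, show (fun x : D => fY l j (x : K)) =
      (fun x : D => dlt l 1 (x : K)) - fun x : D => dlt l (2 * j + 1) (x : K) from rfl,
      classInner_sub_left', map_sub, classInner_conj_symm, classInner_conj_symm]
    rfl
  rw [hs, C.quat.classInner_dlt_dlt (Finset.mem_Icc.2 (by omega)) (Finset.mem_Icc.2 (by omega)),
    C.quat.classInner_dlt_dlt (Finset.mem_Icc.2 (by omega)) (Finset.mem_Icc.2 (by omega)),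
    if_neg (show ¬ 2 * i = 1 by omega), if_neg (show ¬ 2 * i = 2 * j + 1 by omega),
    if_neg (show ¬ (2 * i = 2 * r ∧ 1 = 2 * r) by omega),
    if_neg (show ¬ (2 * i = 2 * r ∧ 2 * j + 1 = 2 * r) by omega), sub_self] at h
  exact_mod_cast h

end CfsgLib.Blocks.QuaternionDefect
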