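import Cfsg.Agent.Lib.Blocks.QuaternionDefect.Central
import Cfsg.Agent.Lib.Blocks.Vanishing

/-!
# The lower bound for `k - l` of a block with quaternion defect group

The generalized characters of the block of the centralizer of the involution `z` that vanish on
the regular elements live on the elements having `z` as a power, so they induce injectively to
such generalized characters of the block.
-/

set_option autoImplicit false

namespace CfsgLib.Blocks.QuaternionDefect

open Cfsg CfsgLib.Blocks CfsgLib.Char CfsgLib.Pairs CfsgLib.Star CfsgLib.Blocks.DihedralDefect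
open scoped Classical ComplexConjugate

/-- The involution is a power of every nontrivial element. -/
theorem Quat.z_mem_zpowers {K : Type*} [Group K] {D : Subgroup K} {σ τ : K} {r : ℕ}
    {l : Subgroup.zpowers σ →* ℂˣ} (h : Quat D σ τ r l) {y : K} (hy : y ∈ D) (hy1 : y ≠ 1) :
    σ ^ (2 * r) ∈ Subgroup.zpowers y := by
  by_cases hyσ : y ∈ Subgroup.zpowers σ
  · by_cases hy2 : y * y = 1
    · rcases h.eq_one_or_z hyσ hy2 with e | e
      · exact absurd e hy1
      · exact e ▸ Subgroup.mem_zpowers y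
    · obtain ⟨m, hm⟩ := h.exists_pow_eq_a hyσ hy2
      rw [← a_sq_eq, ← hm, ← pow_mul]
      exact Subgroup.npow_mem_zpowers y _
  · rw [← h.sq_eq_z hy hyσ]
    exact mul_mem (Subgroup.mem_zpowers y) (Subgroup.mem_zpowers y)

variable {G : Type*} [Group G] [Fintype G] {M : Ideal AlgInt} [M.IsPrime] [Fact (Nat.Prime 2)]
  {H : Subgroup G} {B : Set (IrrCharacter G)} {b : Set (IrrCharacter H)}

/-- Induction is injective on the combinations vanishing on the regular elements. -/
theorem finrank_ker_le (hM : IsPModular 2 M) {z : G} (hz : z * z = 1) (hz1 : z ≠ 1)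
    (hH : H = Subgroup.centralizer (Subgroup.zpowers z : Set G)) (hind : IsInducedBlock M H b B)
    (hsupp : ∀ w : mems b → ℂ, regMap 2 b w = 0 → ∀ g : H,
      ∑ ψ : mems b, w ψ * ((ψ : IrrCharacter H) : H → ℂ) g ≠ 0 → Supp z (g : G)) :
    Module.finrank ℂ (LinearMap.ker (regMap 2 b)) ≤
      Module.finrank ℂ (LinearMap.ker (regMap 2 B)) := by
  have := Fintype.ofFinite (IrrCharacter H)
  have := Fintype.ofFinite (IrrCharacter G)
  let φ : (mems b → ℂ) → H → ℂ := fun w => ∑ ψ : mems b, w ψ • ((ψ : IrrCharacter H) : H → ℂ)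
  have hφ : ∀ w g, φ w g = ∑ ψ : mems b, w ψ * ((ψ : IrrCharacter H) : H → ℂ) g := fun w g => by
    simp only [φ, Finset.sum_apply, Pi.smul_apply, smul_eq_mul]
  have hcl : ∀ w, IsClassFunction H (φ w) := fun w g y => by
    simp only [hφ]
    exact Finset.sum_congr rfl fun ψ _ => by rw [Char.IsIrr.isClassFunction ψ.1.2]
  let T : (mems b → ℂ) →ₗ[ℂ] (mems B → ℂ) :=
    Fintype.linearCombination ℂ fun ψ : mems b => fun χ : mems B =>
      classInner ((ψ : IrrCharacter H) : H → ℂ) (fun k : H => ((χ : IrrCharacter G) : G → ℂ) k)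
  have hT : ∀ w (χ : mems B),
      T w χ = classInner (indFun H (φ w)) ((χ : IrrCharacter G) : G → ℂ) := fun w χ => by
    rw [frobenius_reciprocity _ _ (Char.IsIrr.isClassFunction χ.1.2), classInner_sum_left]
    simp only [T, Fintype.linearCombination_apply, Finset.sum_apply, Pi.smul_apply, smul_eq_mul,
      classInner_smul_left]
  have houtside : ∀ w, regMap 2 b w = 0 → ∀ χ : IrrCharacter G, χ ∉ B →
      classInner (indFun H (φ w)) (χ : G → ℂ) = 0 := by
    intro w hw χ hχ
    rw [frobenius_reciprocity _ _ (Char.IsIrr.isClassFunction χ.2)]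
    set f : H → ℂ := fun k => (χ : G → ℂ) k with hf
    have h1 : classInner (φ w) (blockPart b f) = classInner (φ w) f := by
      simp only [φ, classInner_sum_left, classInner_smul_left]
      refine Finset.sum_congr rfl fun ψ _ => ?_
      congr 1
      rw [← classInner_conj_symm, classInner_blockPart,
        if_pos ((Set.Finite.mem_toFinset _).1 ψ.2), classInner_conj_symm]
    rw [← h1, classInner, Finset.sum_eq_zero fun g _ => ?_, mul_zero]
    by_cases hg : φ w g = 0
    · rw [hg, zero_mul]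
    · obtain ⟨u, hu⟩ : ∃ u, IsPPart 2 (g : G) u := ⟨_, isPPart_pPt _⟩
      rw [hf, blockPart_restrict_eq_zero hM
        ⟨1, by rw [pow_one]; exact orderOf_eq_prime (by rw [pow_two]; exact hz) hz1⟩ hH hind hχ g hu
        ((hsupp w hw g (by rwa [← hφ])).mem_zpowers_pPart hz hu), map_zero, mul_zero]
  have hexp : ∀ w, regMap 2 b w = 0 → indFun H (φ w) =
      ∑ χ : mems B, T w χ • ((χ : IrrCharacter G) : G → ℂ) := fun w hw => by
    conv_lhs => rw [classFunction_eq_sum (isClassFunction_indFun H (φ w))]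
    rw [← Finset.sum_subset (Finset.subset_univ (mems B)) fun χ _ hχ => by
      rw [houtside w hw χ fun h => hχ ((Set.Finite.mem_toFinset _).2 h), zero_smul],
      ← Finset.sum_coe_sort (mems B)]
    exact Finset.sum_congr rfl fun χ _ => by rw [hT]
  have hker : ∀ w, regMap 2 b w = 0 → regMap 2 B (T w) = 0 := fun w hw => by
    refine (regMap_eq_zero_iff _).2 fun g hg => ?_
    have h1 := congrFun (hexp w hw) g
    simp only [Finset.sum_apply, Pi.smul_apply, smul_eq_mul] at h1
    rw [← h1]
    refine DihedralDefect.indFun_eq_zero_of_not_supp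
      (fun k hk => hsupp w hw k (by rwa [← hφ])) fun x hx => hg ?_
    have h2 := Supp.not_two_dvd hz hz1 hx
    have h3 := MulEquiv.orderOf_eq (MulAut.conj x⁻¹) g
    rw [MulAut.conj_apply, inv_inv] at h3
    rwa [h3] at h2
  have hH' : ∀ x : G, Commute x z → x ∈ H := fun x hx => by
    rw [hH]
    refine Subgroup.mem_centralizer_iff.2 fun y hy => ?_
    obtain ⟨i, rfl⟩ := Subgroup.mem_zpowers_iff.1 hy
    exact (hx.zpow_right i).eq.symm
  have hinj : ∀ w, regMap 2 b w = 0 → T w = 0 → w = 0 := fun w hw hw0 => by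
    have h0 : indFun H (φ w) = 0 := by rw [hexp w hw, hw0]; simp
    have hφ0 : φ w = 0 := by
      funext g
      by_contra hne
      have h := DihedralDefect.indFun_eq_self hz hz1 hH' (hcl w)
        (fun k hk => hsupp w hw k (by rwa [← hφ])) (g := g) (hsupp w hw g (by rwa [← hφ]))
      rw [h0, Pi.zero_apply] at h
      exact hne h.symm
    funext ψ
    have h2 := congrArg (fun f => classInner f ((ψ : IrrCharacter H) : H → ℂ)) hφ0
    simp only [φ, classInner_sum_left, classInner_smul_left, classInner_irr] at h2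
    rw [Finset.sum_eq_single ψ (fun u _ hne => by
      rw [if_neg fun e => hne (Subtype.ext e), mul_zero])
      (fun hn => absurd (Finset.mem_univ _) hn), if_pos rfl, mul_one] at h2
    rw [h2, Pi.zero_apply]
    simp [classInner]
  let T' : LinearMap.ker (regMap 2 b) →ₗ[ℂ] LinearMap.ker (regMap 2 B) :=
    (T.comp (LinearMap.ker (regMap 2 b)).subtype).codRestrict _
      fun w => LinearMap.mem_ker.2 (hker w (LinearMap.mem_ker.1 w.2))
  refine LinearMap.finrank_le_finrank_of_injective (f := T') ?_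
  rw [← LinearMap.ker_eq_bot, LinearMap.ker_eq_bot']
  exact fun w hw => Subtype.ext (hinj w (LinearMap.mem_ker.1 w.2) (congrArg Subtype.val hw))

/-- A block with quaternion defect group has `k - l` at least `2 r + 2`. -/
theorem blockRank_add_le_card (hM : IsPModular 2 M) (hB : IsPBlock M B) {P : Subgroup G}
    (hP : IsDefectGroup 2 M B P) {σ τ : G} {r : ℕ} {l : Subgroup.zpowers σ →* ℂˣ}
    (h : Quat P σ τ r l) (eP : P ≃* QuaternionGroup (2 * r)) :
    blockRank 2 B + 2 * r + 2 ≤ Nat.card B := by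
  have hzP : σ ^ (2 * r) ∈ P := P.pow_mem h.memσ _
  have hzc : σ ^ (2 * r) ∈ Subgroup.centralizer (P : Set G) :=
    Subgroup.mem_centralizer_iff.2 fun x hx => (h.z_commute hx).symm.eq
  obtain ⟨H, hH⟩ : ∃ H : Subgroup G,
      H = Subgroup.centralizer (Subgroup.zpowers (σ ^ (2 * r)) : Set G) := ⟨_, rfl⟩
  obtain ⟨b, hb, hind, -, hD⟩ := exists_local_block hM hB hP hzP hzc hH
  have hPH : P ≤ H := fun x hx => by
    rw [hH, centralizer_zpowers]
    exact Subgroup.mem_centralizer_singleton_iff.2 (h.z_commute hx).symm.eq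
  obtain ⟨l', h'⟩ := h.subgroupOf hPH
  have hzH : ∀ g : H, Commute ((⟨σ, hPH h.memσ⟩ : H) ^ (2 * r)) g := fun g => Subtype.ext (by
    simpa using Subgroup.mem_centralizer_iff.1 (hH.le g.2) _ (Subgroup.mem_zpowers (σ ^ (2 * r))))
  have hkl := blockRank_add_le_card_of_central hM hb hD h'
    ((Subgroup.subgroupOfEquivOfLe hPH).trans eP) hzH
  have hker := finrank_ker_le (B := B) (b := b) hM h.z_sq h.z_ne hH hind fun w hw g hne => by
    rw [regMap_eq_zero_iff] at hw
    obtain ⟨u, hu⟩ : ∃ u, IsPPart 2 g u := ⟨_, isPPart_pPt _⟩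
    have hu1 : u ≠ 1 := fun e => by
      obtain ⟨y, hy, -, -, hyo⟩ := hu
      rw [e, one_mul] at hy
      exact hne (hw g (hy ▸ hyo))
    obtain ⟨D, hDd, huD⟩ : ∃ D, IsDefectGroup 2 M b D ∧ u ∈ D := by
      by_contra hno
      push Not at hno
      exact hne (Finset.sum_eq_zero fun ψ _ => by
        rw [apply_eq_zero_of_pPart_notMem hM hb ((Set.Finite.mem_toFinset _).1 ψ.2) hu hno,
          mul_zero])
    obtain ⟨x, hx⟩ := IsDefectGroup.exists_conj hM hb hDd hD
    have hxu : x * u * x⁻¹ ∈ P.subgroupOf H := hx ▸ ⟨u, huD, rfl⟩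
    obtain ⟨m, hm⟩ := Subgroup.mem_zpowers_iff.1
      (h'.z_mem_zpowers hxu fun e => hu1 (by simpa using e))
    have hm' : u ^ m = (⟨σ, hPH h.memσ⟩ : H) ^ (2 * r) := by
      rw [conj_zpow, mul_inv_eq_iff_eq_mul, (hzH x).eq] at hm
      exact mul_left_cancel hm
    have hzg : (⟨σ, hPH h.memσ⟩ : H) ^ (2 * r) ∈ Subgroup.zpowers g :=
      hm' ▸ Subgroup.zpow_mem _ (mem_zpowers_pPart hu) m
    obtain ⟨k, hk⟩ := (mem_powers_iff_mem_zpowers.2 hzg :
      (⟨σ, hPH h.memσ⟩ : H) ^ (2 * r) ∈ Submonoid.powers g)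
    exact ⟨k, by simpa using congrArg Subtype.val hk⟩
  have h1 := blockRank_add_ker (p := 2) (B := B)
  have h2 := blockRank_add_ker (p := 2) (B := b)
  omega

end CfsgLib.Blocks.QuaternionDefect
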