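import Cfsg.Agent.Lib.Blocks.QuaternionDefect.Group
import Cfsg.Agent.Lib.Blocks.MajorSubsection

/-!
# Inner products of the rotation functions of a quaternion group
-/

set_option autoImplicit false

namespace CfsgLib.Blocks.QuaternionDefect

open Cfsg CfsgLib.Pairs CfsgLib.Blocks.DihedralDefect
open scoped Classical ComplexConjugate

variable {K : Type*} [Group K] {D : Subgroup K} {σ τ : K} {r : ℕ}
  {l : Subgroup.zpowers σ →* ℂˣ} (h : Quat D σ τ r l)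
include h

theorem Quat.l_pow (x : Subgroup.zpowers σ) : ((l x : ℂˣ) : ℂ) ^ (2 * (2 * r)) = 1 := by
  have h1 : x ^ (2 * (2 * r)) = 1 := by
    refine orderOf_dvd_iff_pow_eq_one.1 ?_
    rw [← Subgroup.orderOf_coe, ← h.ord]
    exact orderOf_dvd_of_mem_zpowers x.2
  rw [← Units.val_pow_eq_pow_val, ← map_pow, h1, map_one, Units.val_one]

theorem Quat.l_inj {x : Subgroup.zpowers σ} (hx : ((l x : ℂˣ) : ℂ) = 1) : x = 1 := by
  obtain ⟨i, hi⟩ := Subgroup.mem_zpowers_iff.1 x.2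
  have hxe : x = ⟨σ, Subgroup.mem_zpowers σ⟩ ^ i := Subtype.ext (by
    rw [SubgroupClass.coe_zpow, hi])
  rw [hxe, map_zpow, Units.val_zpow_eq_zpow_val, h.prim.zpow_eq_one_iff_dvd] at hx
  refine Subtype.ext ?_
  rw [Subgroup.coe_one, ← hi, ← orderOf_dvd_iff_zpow_eq_one, h.ord]
  exact hx

theorem Quat.l_z : ((l ⟨σ ^ (2 * r), Subgroup.npow_mem_zpowers σ (2 * r)⟩ : ℂˣ) : ℂ) = -1 := by
  rw [show (⟨σ ^ (2 * r), Subgroup.npow_mem_zpowers σ (2 * r)⟩ : Subgroup.zpowers σ) =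
      ⟨σ, Subgroup.mem_zpowers σ⟩ ^ (2 * r) from rfl, map_pow, Units.val_pow_eq_pow_val]
  exact (h.prim.pow (by have := h.one_le; omega) (mul_comm 2 (2 * r))).eq_neg_one_of_two_right

theorem Quat.conj_l (x : Subgroup.zpowers σ) :
    conj ((l x : ℂˣ) : ℂ) = ((l x : ℂˣ) : ℂ)⁻¹ := by
  have h1 : ‖((l x : ℂˣ) : ℂ)‖ = 1 :=
    Complex.norm_eq_one_of_pow_eq_one (h.l_pow x) (by have := h.one_le; omega)
  exact (Complex.inv_eq_conj h1).symm

theorem Quat.conj_dlt (j : ℕ) (g : K) : conj (dlt l j g) = dlt l j g := by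
  by_cases hg : g ∈ Subgroup.zpowers σ
  · rw [show g = ((⟨g, hg⟩ : Subgroup.zpowers σ) : K) from rfl, dlt_coe]
    simp only [map_sub, map_ofNat, map_pow, map_inv₀, h.conj_l, inv_inv]
    ring
  · rw [dlt_of_notMem hg, map_zero]

theorem Quat.dlt_symm {j : ℕ} (hj : j ≤ 2 * (2 * r)) (g : K) : dlt l (2 * (2 * r) - j) g = dlt l j g := by
  by_cases hg : g ∈ Subgroup.zpowers σ
  · rw [show g = ((⟨g, hg⟩ : Subgroup.zpowers σ) : K) from rfl, dlt_coe, dlt_coe]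
    have e := h.l_pow ⟨g, hg⟩
    have e0 : ((l ⟨g, hg⟩ : ℂˣ) : ℂ) ≠ 0 := Units.ne_zero _
    have e' : (((l ⟨g, hg⟩ : ℂˣ) : ℂ)⁻¹) ^ (2 * (2 * r)) = 1 := by rw [inv_pow, e, inv_one]
    rw [pow_sub₀ _ e0 hj, pow_sub₀ _ (inv_ne_zero e0) hj, e, e', one_mul, one_mul, ← inv_pow,
      ← inv_pow, inv_inv]
    ring
  · rw [dlt_of_notMem hg, dlt_of_notMem hg]


theorem Quat.conj_rotation {y g : K} (hy : y ∈ D) (hg : g ∈ Subgroup.zpowers σ) :
    y * g * y⁻¹ = g ∨ y * g * y⁻¹ = g⁻¹ := by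
  obtain ⟨k, rfl⟩ := Subgroup.mem_zpowers_iff.1 hg
  obtain ⟨i, rfl | rfl⟩ := h.elt y hy
  · exact Or.inl (by rw [(Commute.zpow_zpow_self σ i k).eq, mul_inv_cancel_right])
  · refine Or.inr ?_
    rw [show σ ^ i * τ * σ ^ k * (σ ^ i * τ)⁻¹ = σ ^ i * (τ * σ ^ k * τ⁻¹) * (σ ^ i)⁻¹ by group,
      h.conj_zpow]
    group

theorem Quat.conj_mem_zpowers_iff {y g : K} (hy : y ∈ D) :
    y * g * y⁻¹ ∈ Subgroup.zpowers σ ↔ g ∈ Subgroup.zpowers σ := by
  refine ⟨fun hc => ?_, fun hg => ?_⟩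
  · have e := h.conj_rotation (inv_mem hy) hc
    rw [show y⁻¹ * (y * g * y⁻¹) * y⁻¹⁻¹ = g by group] at e
    rcases e with e | e <;> rw [e]
    exacts [hc, inv_mem hc]
  · rcases h.conj_rotation hy hg with e | e <;> rw [e]
    exacts [hg, inv_mem hg]

/-- The rotation functions are invariant under conjugation in `D`. -/
theorem Quat.dlt_conj {g y : K} (hy : y ∈ D) (j : ℕ) : dlt l j (y * g * y⁻¹) = dlt l j g := by
  by_cases hg : g ∈ Subgroup.zpowers σ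
  · rcases h.conj_rotation hy hg with e | e <;> rw [e]
    show dlt l j (((⟨g, hg⟩ : Subgroup.zpowers σ)⁻¹ : Subgroup.zpowers σ) : K) =
      dlt l j ((⟨g, hg⟩ : Subgroup.zpowers σ) : K)
    rw [dlt_coe, dlt_coe, map_inv, Units.val_inv_eq_inv_val, inv_inv]
    ring
  · rw [dlt_of_notMem hg, dlt_of_notMem (mt (h.conj_mem_zpowers_iff hy).1 hg)]

theorem Quat.isClassFunction_dlt (j : ℕ) : IsClassFunction D (fun g : D => dlt l j (g : K)) :=
  fun g y => h.dlt_conj (g := (g : K)) y.2 j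

/-- The values at the central involution. -/
theorem Quat.dlt_z (j : ℕ) : dlt l j (σ ^ (2 * r)) = 2 - 2 * (-1 : ℂ) ^ j := by
  rw [show σ ^ (2 * r) = ((⟨σ ^ (2 * r), Subgroup.npow_mem_zpowers σ _⟩ :
    Subgroup.zpowers σ) : K) from rfl, dlt_coe, h.l_z, show ((-1 : ℂ))⁻¹ = -1 by norm_num]
  ring

variable [Fintype K]

theorem Quat.card_zpowers : (Fintype.card (Subgroup.zpowers σ) : ℂ) = 2 * ((2 * r : ℕ) : ℂ) := by
  rw [← Nat.card_eq_fintype_card, Nat.card_zpowers, h.ord]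
  push_cast
  ring

/-- The sums of the powers of the rotation character. -/
theorem Quat.sum_l_pow (m : ℕ) :
    ∑ x : Subgroup.zpowers σ, ((l x : ℂˣ) : ℂ) ^ m =
      if 2 * (2 * r) ∣ m then 2 * ((2 * r : ℕ) : ℂ) else 0 := by
  split_ifs with hm
  · obtain ⟨k, rfl⟩ := hm
    rw [Finset.sum_congr rfl fun x _ => by rw [pow_mul, h.l_pow, one_pow], Finset.sum_const,
      Finset.card_univ, nsmul_eq_mul, mul_one, h.card_zpowers]
  · set g : Subgroup.zpowers σ := ⟨σ, Subgroup.mem_zpowers σ⟩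
    have hne : ((l g : ℂˣ) : ℂ) ^ m ≠ 1 := fun e => hm ((h.prim.pow_eq_one_iff_dvd m).1 e)
    have hs : ((l g : ℂˣ) : ℂ) ^ m * ∑ x : Subgroup.zpowers σ, ((l x : ℂˣ) : ℂ) ^ m =
        ∑ x : Subgroup.zpowers σ, ((l x : ℂˣ) : ℂ) ^ m := by
      rw [Finset.mul_sum]
      exact Fintype.sum_equiv (Equiv.mulLeft g) _ _ fun x => by simp [mul_pow]
    by_contra hne0
    exact hne ((mul_eq_right₀ hne0).1 hs)

theorem Quat.sum_l_inv_pow (m : ℕ) :
    ∑ x : Subgroup.zpowers σ, (((l x : ℂˣ) : ℂ)⁻¹) ^ m =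
      if 2 * (2 * r) ∣ m then 2 * ((2 * r : ℕ) : ℂ) else 0 := by
  rw [← h.sum_l_pow m]
  exact Fintype.sum_equiv (Equiv.inv _) _ _ fun x => by simp

/-- Sums over `D` against a rotation function. -/
theorem Quat.sum_dlt_mul (j : ℕ) (F : K → ℂ) :
    ∑ g : D, dlt l j (g : K) * F g = ∑ x : Subgroup.zpowers σ, dlt l j (x : K) * F x := by
  rw [← Finset.sum_filter_of_ne (p := fun g : D => (g : K) ∈ Subgroup.zpowers σ) fun g _ hne => by
    by_contra hg
    exact hne (by rw [dlt_of_notMem hg, zero_mul])]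
  refine Finset.sum_bij (fun g hg => ⟨(g : K), (Finset.mem_filter.1 hg).2⟩)
    (fun _ _ => Finset.mem_univ _) (fun a _ b _ e => Subtype.ext (congrArg Subtype.val e :))
    (fun x _ => ⟨⟨(x : K), h.zpowers_le x.2⟩, Finset.mem_filter.2 ⟨Finset.mem_univ _, x.2⟩, rfl⟩)
    fun _ _ => rfl

theorem Quat.classInner_dlt_dlt {i j : ℕ} (hi : i ∈ Finset.Icc 1 (2 * r)) (hj : j ∈ Finset.Icc 1 (2 * r)) :
    classInner (fun g : D => dlt l i (g : K)) (fun g : D => dlt l j (g : K)) =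
      2 + (if i = j then 1 else 0) + (if i = (2 * r) ∧ j = (2 * r) then 1 else 0) := by
  rw [Finset.mem_Icc] at hi hj
  have hq := h.one_le
  have key : ∀ x : Subgroup.zpowers σ, dlt l i (x : K) * dlt l j (x : K) =
      4 - 2 * ((l x : ℂˣ) : ℂ) ^ i - 2 * (((l x : ℂˣ) : ℂ)⁻¹) ^ i - 2 * ((l x : ℂˣ) : ℂ) ^ j -
        2 * (((l x : ℂˣ) : ℂ)⁻¹) ^ j + ((l x : ℂˣ) : ℂ) ^ (i + j) +
        (((l x : ℂˣ) : ℂ)⁻¹) ^ (i + j) + ((l x : ℂˣ) : ℂ) ^ (i + (2 * (2 * r) - j)) +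
        (((l x : ℂˣ) : ℂ)⁻¹) ^ (i + (2 * (2 * r) - j)) := by
    intro x
    have e := h.l_pow x
    have e0 : ((l x : ℂˣ) : ℂ) ≠ 0 := Units.ne_zero _
    have e' : (((l x : ℂˣ) : ℂ)⁻¹) ^ (2 * (2 * r)) = 1 := by rw [inv_pow, e, inv_one]
    rw [dlt_coe, dlt_coe, pow_add, pow_add, pow_add, pow_add, pow_sub₀ _ e0 (by omega : j ≤ 2 * (2 * r)),
      pow_sub₀ _ (inv_ne_zero e0) (by omega : j ≤ 2 * (2 * r)), e, e', one_mul, one_mul, ← inv_pow,
      ← inv_pow, inv_inv]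
    ring
  have hc : (Nat.card D : ℂ) = 4 * ((2 * r : ℕ) : ℂ) := by rw [h.card]; push_cast; ring
  simp only [classInner, h.conj_dlt]
  rw [h.sum_dlt_mul i (fun g => dlt l j g), Finset.sum_congr rfl fun x _ => key x, hc]
  simp only [Finset.sum_add_distrib, Finset.sum_sub_distrib, ← Finset.mul_sum, h.sum_l_pow,
    h.sum_l_inv_pow, Finset.sum_const, Finset.card_univ, nsmul_eq_mul, h.card_zpowers]
  have hi' : ¬ 2 * (2 * r) ∣ i := fun hd => by have := Nat.le_of_dvd (by omega) hd; omega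
  have hj' : ¬ 2 * (2 * r) ∣ j := fun hd => by have := Nat.le_of_dvd (by omega) hd; omega
  have hij : (2 * (2 * r) ∣ i + j) ↔ (i = (2 * r) ∧ j = (2 * r)) := by
    refine ⟨fun hd => ?_, fun ⟨a, b⟩ => ⟨1, by omega⟩⟩
    have := Nat.le_of_dvd (by omega) hd
    omega
  have hdif : (2 * (2 * r) ∣ i + (2 * (2 * r) - j)) ↔ i = j := by
    refine ⟨fun hd => ?_, fun e => ⟨1, by omega⟩⟩
    obtain ⟨k, hk⟩ := hd
    rcases k with _ | _ | k
    · simp at hk; omega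
    · omega
    · have h2 : 2 * (2 * r) * (k + 1 + 1) = 2 * (2 * r) * k + 4 * (2 * r) := by ring
      rw [h2] at hk
      omega
  have hq0 : ((2 * r : ℕ) : ℂ) ≠ 0 := Nat.cast_ne_zero.2 (by omega)
  simp only [if_neg hi', if_neg hj', hij, hdif]
  split_ifs <;> field_simp <;> ring


omit h in
/-- The multiplicity of the power `j` of the rotation character in a function. -/
noncomputable def mult (l : Subgroup.zpowers σ →* ℂˣ) [Fintype (Subgroup.zpowers σ)] (f : K → ℂ)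
    (j : ℕ) : ℂ :=
  (Nat.card (Subgroup.zpowers σ) : ℂ)⁻¹ *
    ∑ x : Subgroup.zpowers σ, ((l x : ℂˣ) : ℂ) ^ j * conj (f x)

theorem Quat.mult_eq (f : K → ℂ) (j : ℕ) : mult l f j = (2 * ((2 * r : ℕ) : ℂ))⁻¹ *
    ∑ x : Subgroup.zpowers σ, ((l x : ℂˣ) : ℂ) ^ j * conj (f x) := by
  rw [mult, Nat.card_eq_fintype_card, h.card_zpowers]

omit h in
theorem extendByZero_coe' (η : IrrCharacter D) (g : D) :
    extendByZero D (η : D → ℂ) (g : K) = (η : D → ℂ) g :=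
  Subtype.val_injective.extend_apply _ _ g

theorem Quat.exists_nat_mult (η : IrrCharacter D) (j : ℕ) :
    ∃ k : ℕ, mult l (extendByZero D (η : D → ℂ)) j = k := by
  let ι : Subgroup.zpowers σ →* D := Subgroup.inclusion h.zpowers_le
  have hres := CfsgLib.Char.IsChar.comp ι (CfsgLib.Char.IsIrr.isCharacter η.2)
  obtain ⟨k, hk⟩ := CfsgLib.Char.IsChar.classInner_eq_natCast
    (CfsgLib.Char.IsIrr.isCharacter (CfsgLib.Char.isIrrCharacter_linear (l ^ j))) hres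
  refine ⟨k, ?_⟩
  rw [← hk, classInner, mult]
  congr 1
  refine Finset.sum_congr rfl fun x _ => ?_
  rw [show (x : K) = ((ι x : D) : K) from rfl, extendByZero_coe']
  simp

/-- The inner product with a rotation function. -/
theorem Quat.classInner_dlt (η : IrrCharacter D) (j : ℕ) :
    classInner (fun g : D => dlt l j (g : K)) (η : D → ℂ) =
      mult l (extendByZero D (η : D → ℂ)) 0 - mult l (extendByZero D (η : D → ℂ)) j := by
  set F : K → ℂ := extendByZero D (η : D → ℂ) with hF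
  have hFg : ∀ g : D, (η : D → ℂ) g = F g := fun g => (extendByZero_coe' η g).symm
  have hsym : ∀ x : Subgroup.zpowers σ, F ((x⁻¹ : Subgroup.zpowers σ) : K) = F x := by
    intro x
    have e1 : ((x⁻¹ : Subgroup.zpowers σ) : K) =
        (((⟨τ, h.memτ⟩ : D) * ⟨x, h.zpowers_le x.2⟩ * (⟨τ, h.memτ⟩ : D)⁻¹ : D) : K) := by
      obtain ⟨i, hi⟩ := Subgroup.mem_zpowers_iff.1 x.2
      show ((x⁻¹ : Subgroup.zpowers σ) : K) = τ * (x : K) * τ⁻¹
      rw [Subgroup.coe_inv, ← hi, h.conj_zpow, zpow_neg]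
    rw [e1, ← hFg, CfsgLib.Char.IsIrr.isClassFunction η.2, hFg]
  have hc : (Nat.card D : ℂ) = 4 * ((2 * r : ℕ) : ℂ) := by rw [h.card]; push_cast; ring
  have hswap : ∑ x : Subgroup.zpowers σ, (((l x : ℂˣ) : ℂ)⁻¹) ^ j * conj (F x) =
      ∑ x : Subgroup.zpowers σ, ((l x : ℂˣ) : ℂ) ^ j * conj (F x) :=
    Fintype.sum_equiv (Equiv.inv _) _ _ fun x => by
      simp only [Equiv.inv_apply, map_inv, Units.val_inv_eq_inv_val, hsym x]
  rw [classInner, Finset.sum_congr rfl fun g _ => by rw [hFg g],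
    h.sum_dlt_mul j fun g => conj (F g), hc, h.mult_eq, h.mult_eq]
  rw [Finset.sum_congr rfl (g := fun x : Subgroup.zpowers σ =>
    2 * (((l x : ℂˣ) : ℂ) ^ 0 * conj (F x)) -
      ((l x : ℂˣ) : ℂ) ^ j * conj (F x) -
      (((l x : ℂˣ) : ℂ)⁻¹) ^ j * conj (F x)) fun x _ => by rw [dlt_coe]; ring]
  simp only [Finset.sum_sub_distrib, ← Finset.mul_sum, hswap]
  have hq0 : ((2 * r : ℕ) : ℂ) ≠ 0 := Nat.cast_ne_zero.2 (by have := h.one_le; omega)
  field_simp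
  ring

/-- The multiplicities add up to the value at `1`. -/
theorem Quat.sum_mult (f : K → ℂ) :
    ∑ j ∈ Finset.range (2 * (2 * r)), mult l f j = conj (f 1) := by
  simp only [h.mult_eq, ← Finset.mul_sum]
  rw [Finset.sum_comm, Finset.sum_eq_single (1 : Subgroup.zpowers σ)]
  · simp only [map_one, Units.val_one, one_pow, one_mul, Subgroup.coe_one, Finset.sum_const,
      Finset.card_range, nsmul_eq_mul]
    have hr0 : (r : ℂ) ≠ 0 := Nat.cast_ne_zero.2 (by have := h.one_le; omega)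
    push_cast
    field_simp
  · intro x _ hx
    rw [← Finset.sum_mul]
    refine mul_eq_zero_of_left ?_ _
    have h1 : ((l x : ℂˣ) : ℂ) ≠ 1 := fun e => hx (h.l_inj e)
    exact (mul_eq_zero.1 (by rw [geom_sum_mul, h.l_pow x, sub_self] :
      (∑ j ∈ Finset.range (2 * (2 * r)), ((l x : ℂˣ) : ℂ) ^ j) * (((l x : ℂˣ) : ℂ) - 1) = 0)
      ).resolve_right (sub_ne_zero.2 h1)
  · exact fun hn => absurd (Finset.mem_univ _) hn

/-- An eigenfunction of the central involution has one parity of multiplicities. -/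
theorem Quat.mult_eq_zero {f : K → ℂ} {s : ℂ}
    (hf : ∀ x : Subgroup.zpowers σ, f (σ ^ (2 * r) * (x : K)) = s * f x) {j : ℕ}
    (hs : (-1 : ℂ) ^ j * conj s = -1) : mult l f j = 0 := by
  rw [mult]
  refine mul_eq_zero_of_right _ ?_
  set w : Subgroup.zpowers σ := ⟨σ ^ (2 * r), Subgroup.npow_mem_zpowers σ _⟩ with hw
  have h1 : ∑ x : Subgroup.zpowers σ, ((l x : ℂˣ) : ℂ) ^ j * conj (f x) =
      -∑ x : Subgroup.zpowers σ, ((l x : ℂˣ) : ℂ) ^ j * conj (f x) := by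
    conv_lhs => rw [← Equiv.sum_comp (Equiv.mulLeft w)]
    rw [← Finset.sum_neg_distrib]
    refine Finset.sum_congr rfl fun x _ => ?_
    rw [Equiv.coe_mulLeft, map_mul, Units.val_mul, mul_pow, hw, h.l_z, Subgroup.coe_mul, hf,
      map_mul]
    linear_combination (((l x : ℂˣ) : ℂ) ^ j * conj (f x)) * hs
  exact self_eq_neg.1 h1

end CfsgLib.Blocks.QuaternionDefect
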